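import Cfsg.Agent.Lib.TwoGroups.CentreIndexFour.AbelianSetup
import Cfsg.Agent.Lib.TwoFusion.AbelianFactor.Main
import Cfsg.Agent.Lib.Blocks.HomocyclicSylow

/-!
Owner: helper2.  A simple group whose Sylow 2-subgroup is abelian with an invariant four-group quotient
has a Sylow 2-subgroup of order four, given the general theorem of Bender (for S4594).
-/

set_option autoImplicit false
set_option linter.unusedSectionVars false
set_option linter.style.haveILetI false

namespace CfsgLib.TwoGroups.CentreIndexFour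

open Subgroup Cfsg
open CfsgLib.TwoFusion.AbelianFactor (Fib Good Homo factor_eq_bot_of_simple)

universe u

variable {H : Type u} [Group H] [Finite H]

theorem commutator_top_of_simple [IsSimpleGroup H] (hnc : center H = ⊥) : commutator H = ⊤ :=
  (IsSimpleGroup.eq_bot_or_eq_top_of_normal _ inferInstance).resolve_left fun h => by
    obtain ⟨x, hx⟩ := exists_ne (1 : H)
    have hc : x ∈ center H := mem_center_iff.2 fun y =>
      commutatorElement_eq_one_iff_mul_comm.1 (mem_bot.1 (h ▸ commutator_mem_commutator (mem_top y)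
        (mem_top x)))
    rw [hnc, mem_bot] at hc
    exact hx hc

theorem odd_normal_eq_bot [IsSimpleGroup H] {x : H} (hx : orderOf x = 2) (N : Subgroup H)
    (hN : N.Normal) (hodd : Odd (Nat.card N)) : N = ⊥ := by
  refine (IsSimpleGroup.eq_bot_or_eq_top_of_normal N hN).resolve_right fun h => ?_
  subst h
  have h1 := hodd.of_dvd_nat (orderOf_dvd_natCard (⊤ : Subgroup H) (mem_top x))
  rw [hx] at h1
  exact absurd h1 (by decide)

/-- A subgroup of an abelian Sylow subgroup normalised by its normaliser's complement is strongly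
closed. -/
theorem AbCtx.closed {S : Sylow 2 H} {S₀ B X : Subgroup H} (K : AbCtx S S₀ B)
    (hX : X ≤ (S : Subgroup H)) (hB : B ≤ normalizer (X : Set H)) :
    IsStronglyClosed X (S : Subgroup H) := by
  haveI : Fact (Nat.Prime 2) := ⟨Nat.prime_two⟩
  refine ⟨hX, fun x hx g hg => ?_⟩
  obtain ⟨n, hn, hne⟩ := exists_normalizer_conj_central S (fun s hs => K.comm s hs x (hX hx))
    (fun s hs => K.comm s hs _ hg) rfl
  rw [← hne]
  obtain ⟨s, hs, β, hβ, rfl⟩ := K.decomp n hn
  have h1 := (mem_normalizer_iff.1 (hB hβ) x).1 hx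
  rw [show s * β * x * (s * β)⁻¹ = s * (β * x * β⁻¹) * s⁻¹ by group, (K.comm s hs _ (hX h1)).eq,
    mul_inv_cancel_right]
  exact h1

theorem abelian_card_four (hB : CfsgLib.Bender.BenderGen.{u}) [IsSimpleGroup H] (hnc : center H = ⊥)
    (S : Sylow 2 H) (hab : ∀ a ∈ (S : Subgroup H), ∀ b ∈ (S : Subgroup H), Commute a b)
    (S₀ : Subgroup H) (h0 : S₀ ≤ (S : Subgroup H))
    (hinv : normalizer ((S : Subgroup H) : Set H) ≤ normalizer (S₀ : Set H))
    (hidx : S₀.relIndex (S : Subgroup H) = 4) (hsq : ∀ s ∈ (S : Subgroup H), s * s ∈ S₀) :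
    Nat.card (S : Subgroup H) = 4 := by
  obtain ⟨B, hBN, hodd, hdec⟩ := exists_odd_complement S
  have K : AbCtx S S₀ B :=
    ⟨commutator_top_of_simple hnc, hab, h0, hinv, hidx, hsq, hBN, hodd, hdec⟩
  obtain ⟨m, hm, R, W, hR, hW, hBR, hBW, hinf, hsup, hhom⟩ := K.exists_plane
  have F : Fib S R W :=
    ⟨⟨hR, hW, fun a ha b hb => (hab a (hR ha) b (hW hb)).eq, hinf, hsup⟩, K.closed hR hBR,
      K.closed hW hBW, fun a ha b hb => hab a (hW ha) b (hW hb), Or.inl ⟨m, hm, hhom⟩⟩
  have hbot := factor_eq_bot_of_simple hB hnc F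
  rw [hbot, sup_bot_eq] at hsup
  subst hsup
  obtain ⟨e⟩ := hhom
  obtain ⟨x, -, -, -, hx, -⟩ := Homo.involutions hm ⟨e⟩
  rcases Nat.lt_or_ge m 2 with h | h
  · obtain rfl : m = 1 := by omega
    rw [Nat.card_congr e.toEquiv, Nat.card_eq_fintype_card]
    simp [Fintype.card_prod, ZMod.card]
  · exfalso
    obtain ⟨hn, -⟩ := CfsgLib.Homocyclic.normal_of_homocyclic S m h e (odd_normal_eq_bot hx)
    rcases IsSimpleGroup.eq_bot_or_eq_top_of_normal _ hn with h' | h'
    · have h1 := hidx
      rw [show S₀ = ⊥ from le_bot_iff.1 (h' ▸ h0), h', relIndex_self] at h1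
      omega
    · obtain ⟨y, hy⟩ := exists_ne (1 : H)
      have : y ∈ center H := mem_center_iff.2 fun g => (hab g (h' ▸ mem_top g) y (h' ▸ mem_top y)).eq
      rw [hnc, mem_bot] at this
      exact hy this

end CfsgLib.TwoGroups.CentreIndexFour
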