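import Cfsg.Agent.Lib.Transfer.Fusion
import Cfsg.Agent.Lib.Core.Coprime
import Mathlib.GroupTheory.SchurZassenhaus
import Mathlib.Data.ZMod.Basic
import Mathlib.Algebra.Group.TypeTags.Finite

/-!
Owner: helper2.  Normaliser of a Sylow 2-subgroup, and small tools (for S4594).
-/

set_option autoImplicit false
set_option linter.unusedSectionVars false
set_option linter.style.haveILetI false

namespace CfsgLib.TwoGroups.CentreIndexFour

open Subgroup
open scoped commutatorElement

variable {G : Type*} [Group G] [Finite G]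

/-- A complement of odd order in the normaliser of a Sylow 2-subgroup. -/
theorem exists_odd_complement (S : Sylow 2 G) :
    ∃ B : Subgroup G, B ≤ normalizer ((S : Subgroup G) : Set G) ∧ Odd (Nat.card B) ∧
      ∀ n ∈ normalizer ((S : Subgroup G) : Set G), ∃ s ∈ (S : Subgroup G), ∃ β ∈ B, n = s * β := by
  haveI : Fact (Nat.Prime 2) := ⟨Nat.prime_two⟩
  set N := normalizer ((S : Subgroup G) : Set G) with hN
  haveI : ((S : Subgroup G).subgroupOf N).Normal := normal_subgroupOf_of_le_normalizer le_rfl
  have hcop : (Nat.card ((S : Subgroup G).subgroupOf N)).Coprime ((S : Subgroup G).subgroupOf N).index :=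
    (S.subtype le_normalizer).card_coprime_index
  obtain ⟨K, hK⟩ := exists_right_complement'_of_coprime hcop
  refine ⟨K.map N.subtype, map_subtype_le _, ?_, fun n hn => ?_⟩
  · rw [← Nat.card_congr (K.equivMapOfInjective _ N.subtype_injective).toEquiv, ← hK.symm.index_eq_card]
    have h2 := (S.subtype (le_normalizer : (S : Subgroup G) ≤ N)).not_dvd_index
    exact Nat.odd_iff.2 (Nat.two_dvd_ne_zero.1 h2)
  · obtain ⟨⟨s, β⟩, h⟩ := hK.2 ⟨n, hn⟩
    exact ⟨((s : N) : G), s.2, ((β : N) : G), mem_map_of_mem _ β.2, (congrArg Subtype.val h).symm⟩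

omit [Finite G] in
theorem odd_orderOf {B : Subgroup G} (hodd : Odd (Nat.card B)) {β : G} (hβ : β ∈ B) :
    Odd (orderOf β) :=
  hodd.of_dvd_nat (orderOf_dvd_natCard B hβ)

/-- An element of odd order fixes what its square fixes. -/
theorem fix_of_fix_sq {β : G} (hodd : Odd (orderOf β)) {v : G} (h : Commute (β * β) v) :
    Commute β v := by
  obtain ⟨k, hk⟩ := hodd
  have e : β = (β * β) ^ (k + 1) := by
    rw [← pow_two, ← pow_mul, show 2 * (k + 1) = orderOf β + 1 by omega, pow_succ, pow_orderOf_eq_one,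
      one_mul]
  rw [e]
  exact h.pow_left _

/-- An element of odd order preserving a two element set fixes it pointwise. -/
theorem fix_of_pair {β a b : G} (hodd : Odd (orderOf β)) (ha : β * a * β⁻¹ = a ∨ β * a * β⁻¹ = b)
    (hb : β * b * β⁻¹ = a ∨ β * b * β⁻¹ = b) : Commute β a := by
  rcases ha with ha | ha
  · exact mul_inv_eq_iff_eq_mul.1 ha
  rcases hb with hb | hb
  · refine fix_of_fix_sq hodd (mul_inv_eq_iff_eq_mul.1 ?_)
    calc β * β * a * (β * β)⁻¹ = β * (β * a * β⁻¹) * β⁻¹ := by group
      _ = a := by rw [ha, hb]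
  · have : a = b := (MulAut.conj β).injective (by simp [ha, hb])
    exact mul_inv_eq_iff_eq_mul.1 (by rw [ha, this])

/-- Burnside: fusion inside the centre of a Sylow subgroup happens in its normaliser. -/
theorem exists_normalizer_conj_central {p : ℕ} [Fact p.Prime] (S : Sylow p G) {a b : G}
    (ha : ∀ s ∈ (S : Subgroup G), Commute s a) (hb : ∀ s ∈ (S : Subgroup G), Commute s b) {g : G}
    (hg : g * a * g⁻¹ = b) :
    ∃ n ∈ normalizer ((S : Subgroup G) : Set G), n * a * n⁻¹ = b := by
  obtain ⟨n, hn, h⟩ := CfsgLib.Transfer.exists_normalizer_conj_of_normal_subsets S (X := {a}) (Y := {b})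
    (fun x hx v hv => by
      rw [Set.mem_singleton_iff] at hv ⊢; subst hv
      exact mul_inv_eq_iff_eq_mul.2 (ha x hx).eq)
    (fun x hx v hv => by
      rw [Set.mem_singleton_iff] at hv ⊢; subst hv
      exact mul_inv_eq_iff_eq_mul.2 (hb x hx).eq)
    (g := g) (by simp [hg])
  exact ⟨n, hn, by simpa using h⟩

/-- A group generated by two commuting elements with no relation below exponent `n`. -/
theorem homocyclic_pair {n : ℕ} [NeZero n] {r s : G} (hc : Commute r s) (hr : r ^ n = 1)
    (hs : s ^ n = 1)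
    (hinj : ∀ i j : ℕ, i < n → j < n → r ^ i * s ^ j = 1 → i = 0 ∧ j = 0) :
    Nonempty (closure ({r, s} : Set G) ≃* Multiplicative (ZMod n × ZMod n)) := by
  let f : Multiplicative (ZMod n × ZMod n) →* G :=
    MonoidHom.mk' (fun p => r ^ p.toAdd.1.val * s ^ p.toAdd.2.val) fun p q => by
      show r ^ (p.toAdd.1 + q.toAdd.1).val * s ^ (p.toAdd.2 + q.toAdd.2).val = _
      rw [ZMod.val_add, ZMod.val_add, ← pow_eq_pow_mod _ hr, ← pow_eq_pow_mod _ hs, pow_add, pow_add]
      exact Commute.mul_mul_mul_comm (hc.pow_pow _ _) _ _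
  have hf : Function.Injective f := (injective_iff_map_eq_one f).2 fun p hp => by
    obtain ⟨h1, h2⟩ := hinj _ _ (ZMod.val_lt _) (ZMod.val_lt _) hp
    rw [ZMod.val_eq_zero] at h1 h2
    exact Multiplicative.toAdd.injective (Prod.ext h1 h2)
  have hrange : f.range = closure ({r, s} : Set G) := by
    refine le_antisymm ?_ ((closure_le _).2 ?_)
    · rintro _ ⟨p, rfl⟩
      exact mul_mem (pow_mem (subset_closure (Set.mem_insert r {s})) _)
        (pow_mem (subset_closure (Set.mem_insert_of_mem r (Set.mem_singleton s))) _)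
    · intro x hx
      rcases hx with h | h
      · subst h
        exact ⟨Multiplicative.ofAdd (((1 : ℕ) : ZMod n), 0), by
          show x ^ ((1 : ℕ) : ZMod n).val * s ^ (0 : ZMod n).val = x
          rw [ZMod.val_natCast, ← pow_eq_pow_mod _ hr, ZMod.val_zero, pow_one, pow_zero, mul_one]⟩
      · rw [Set.mem_singleton_iff] at h
        subst h
        exact ⟨Multiplicative.ofAdd (0, ((1 : ℕ) : ZMod n)), by
          show r ^ (0 : ZMod n).val * x ^ ((1 : ℕ) : ZMod n).val = x
          rw [ZMod.val_natCast, ← pow_eq_pow_mod _ hs, ZMod.val_zero, pow_one, pow_zero, one_mul]⟩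
  exact ⟨((MonoidHom.ofInjective hf).trans (MulEquiv.subgroupCongr hrange)).symm⟩

end CfsgLib.TwoGroups.CentreIndexFour
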