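import Cfsg.Agent.Lib.TwoGroups.CentreIndexFour.Four
import Cfsg.Agent.Lib.TwoGroups.CentreIndexFour.Setup
import Cfsg.Agent.Lib.Transfer.Abelian
import Cfsg.Agent.Lib.PLocal.Misc

/-!
Owner: helper2.  An abelian Sylow 2-subgroup with a normaliser invariant four-group quotient in a
perfect group is the product of an invariant homocyclic plane and an invariant complement (for S4594).
-/

set_option autoImplicit false
set_option linter.unusedSectionVars false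
set_option linter.style.haveILetI false

namespace CfsgLib.TwoGroups.CentreIndexFour

open Subgroup
open scoped commutatorElement

/-- The hypotheses. -/
structure AbCtx {H : Type*} [Group H] (S : Sylow 2 H) (S₀ B : Subgroup H) : Prop where
  perfect : commutator H = ⊤
  comm : ∀ a ∈ (S : Subgroup H), ∀ b ∈ (S : Subgroup H), Commute a b
  le₀ : S₀ ≤ (S : Subgroup H)
  inv₀ : normalizer ((S : Subgroup H) : Set H) ≤ normalizer (S₀ : Set H)
  idx : S₀.relIndex (S : Subgroup H) = 4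
  sq : ∀ s ∈ (S : Subgroup H), s * s ∈ S₀
  leN : B ≤ normalizer ((S : Subgroup H) : Set H)
  odd : Odd (Nat.card B)
  decomp : ∀ n ∈ normalizer ((S : Subgroup H) : Set H), ∃ s ∈ (S : Subgroup H), ∃ β ∈ B, n = s * β

namespace AbCtx

variable {H : Type*} [Group H] {S : Sylow 2 H} {S₀ B : Subgroup H} (K : AbCtx S S₀ B)

include K

theorem comm' : IsMulCommutative (S : Subgroup H) :=
  ⟨⟨fun a b => Subtype.ext (K.comm a a.2 b b.2)⟩⟩

theorem conj_mem {β s : H} (hβ : β ∈ B) (hs : s ∈ (S : Subgroup H)) :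
    β * s * β⁻¹ ∈ (S : Subgroup H) :=
  (mem_normalizer_iff.1 (K.leN hβ) s).1 hs

theorem conj_mem₀ {β s : H} (hβ : β ∈ B) (hs : s ∈ S₀) : β * s * β⁻¹ ∈ S₀ :=
  (mem_normalizer_iff.1 (K.inv₀ (K.leN hβ)) s).1 hs

theorem coprime [Finite H] {P : Subgroup H} (hP : P ≤ (S : Subgroup H)) {A : Subgroup H}
    (hA : A ≤ B) : (Nat.card A).Coprime (Nat.card P) := by
  haveI : Fact (Nat.Prime 2) := ⟨Nat.prime_two⟩
  obtain ⟨n, hn⟩ := IsPGroup.iff_card.1 (S.2.to_le hP)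
  rw [hn]
  exact (Nat.coprime_two_right.2 (K.odd.of_dvd_nat (card_dvd_of_le hA))).pow_right n

variable [Finite H]

theorem commutator_eq : ⁅(S : Subgroup H), B⁆ = (S : Subgroup H) := by
  haveI : Fact (Nat.Prime 2) := ⟨Nat.prime_two⟩
  have hle : ⁅(S : Subgroup H), B⁆ ≤ (S : Subgroup H) := le_normalizer_iff_commutator_le_left.mp K.leN
  refine le_antisymm hle ?_
  have h := CfsgLib.Transfer.commutator_inf_eq_commutator_normalizer S K.comm'
  rw [K.perfect, top_inf_eq] at h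
  conv_lhs => rw [h]
  rw [commutator_le]
  intro a ha n hn
  obtain ⟨s, hs, β, hβ, rfl⟩ := K.decomp n hn
  have e : ⁅a, s * β⁆ = ⁅a, s⁆ * (s * ⁅a, β⁆ * s⁻¹) := by simp only [commutatorElement_def]; group
  have hm := commutator_mem_commutator ha hβ
  rw [e, commutatorElement_eq_one_iff_mul_comm.2 (K.comm a ha s hs).eq, one_mul,
    (K.comm s hs _ (hle hm)).eq, mul_inv_cancel_right]
  exact hm

theorem fixed_eq_one {s : H} (hs : s ∈ (S : Subgroup H)) (h : ∀ β ∈ B, Commute β s) : s = 1 := by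
  haveI := K.comm'
  have hb := CfsgLib.Core.abelian_inf_eq_bot (A := B) (V := (S : Subgroup H)) K.leN (K.coprime le_rfl le_rfl)
  rw [K.commutator_eq] at hb
  have : s ∈ ((S : Subgroup H) ⊓ centralizer (B : Set H)) ⊓ (S : Subgroup H) :=
    ⟨⟨hs, mem_centralizer_iff.2 fun β hβ => (h β hβ).eq⟩, hs⟩
  rwa [hb, mem_bot] at this

theorem exists_plane :
    ∃ m, 1 ≤ m ∧ ∃ R W : Subgroup H, R ≤ (S : Subgroup H) ∧ W ≤ (S : Subgroup H) ∧
      B ≤ normalizer (R : Set H) ∧ B ≤ normalizer (W : Set H) ∧ R ⊓ W = ⊥ ∧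
      R ⊔ W = (S : Subgroup H) ∧
      Nonempty (R ≃* Multiplicative (ZMod (2 ^ m) × ZMod (2 ^ m))) := by
  haveI : Fact (Nat.Prime 2) := ⟨Nat.prime_two⟩
  classical
  have hnS : (S : Subgroup H) ≤ normalizer (S₀ : Set H) := le_normalizer.trans K.inv₀
  have four : ∀ {β x : H}, β ∈ B → x ∈ (S : Subgroup H) → x ∉ S₀ →
      ((β * x * β⁻¹) * x⁻¹ ∈ S₀ → ∀ s ∈ (S : Subgroup H), (β * s * β⁻¹) * s⁻¹ ∈ S₀) ∧
        (¬ (β * x * β⁻¹) * x⁻¹ ∈ S₀ →
          (β * (β * x * β⁻¹) * β⁻¹) * (x * (β * x * β⁻¹))⁻¹ ∈ S₀) := fun {β x} hβ hx hx0 =>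
    four_action K.le₀ hnS K.idx K.sq (K.leN hβ) (K.inv₀ (K.leN hβ)) (odd_orderOf K.odd hβ) hx hx0
  -- the kernel `B₀`
  let B₀ : Subgroup H :=
    { carrier := {β | β ∈ B ∧ ∀ s ∈ (S : Subgroup H), (β * s * β⁻¹) * s⁻¹ ∈ S₀}
      one_mem' := ⟨B.one_mem, fun s _ => by simp⟩
      mul_mem' := by
        rintro β γ ⟨hβ, hβ'⟩ ⟨hγ, hγ'⟩
        refine ⟨mul_mem hβ hγ, fun s hs => ?_⟩
        have e : (β * γ * s * (β * γ)⁻¹) * s⁻¹ =
            (β * ((γ * s * γ⁻¹) * s⁻¹) * β⁻¹) * ((β * s * β⁻¹) * s⁻¹) := by group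
        rw [e]
        exact mul_mem (K.conj_mem₀ hβ (hγ' s hs)) (hβ' s hs)
      inv_mem' := by
        rintro β ⟨hβ, hβ'⟩
        refine ⟨inv_mem hβ, fun s hs => ?_⟩
        have h := inv_mem (hβ' _ (K.conj_mem (inv_mem hβ) hs))
        convert h using 1
        group }
  have hB₀B : B₀ ≤ B := fun β hβ => hβ.1
  have hB₀n : ∀ γ ∈ B, ∀ β ∈ B₀, γ * β * γ⁻¹ ∈ B₀ := by
    rintro γ hγ β ⟨hβ, hβ'⟩
    refine ⟨mul_mem (mul_mem hγ hβ) (inv_mem hγ), fun s hs => ?_⟩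
    have h := K.conj_mem₀ hγ (hβ' _ (K.conj_mem (inv_mem hγ) hs))
    convert h using 1
    group
  obtain ⟨a, haB, ha⟩ : ∃ a ∈ B, a ∉ B₀ := by
    by_contra hall
    push Not at hall
    have hle : (S : Subgroup H) ≤ S₀ := by
      conv_lhs => rw [← K.commutator_eq]
      rw [commutator_le]
      intro s hs β hβ
      have h := inv_mem ((hall β hβ).2 s hs)
      convert h using 1
      rw [commutatorElement_def]; group
    have h1 := K.idx
    rw [relIndex_eq_one.2 hle] at h1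
    omega
  have moves : ∀ x ∈ (S : Subgroup H), x ∉ S₀ → (a * x * a⁻¹) * x⁻¹ ∉ S₀ := fun x hx hx0 h =>
    ha ⟨haB, (four haB hx hx0).1 h⟩
  -- congruences modulo `S₀`
  have hmul : ∀ {x y x' y' : H}, x ∈ (S : Subgroup H) → y ∈ (S : Subgroup H) → x' ∈ (S : Subgroup H) →
      y' ∈ (S : Subgroup H) → x * y⁻¹ ∈ S₀ → x' * y'⁻¹ ∈ S₀ → (x * x') * (y * y')⁻¹ ∈ S₀ := by
    intro x y x' y' hx hy hx' hy' h h'
    have e : (x * x') * (y * y')⁻¹ = (x * y⁻¹) * (x' * y'⁻¹) := by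
      rw [mul_inv_rev, (K.comm y'⁻¹ (inv_mem hy') y⁻¹ (inv_mem hy)).eq, mul_assoc, mul_assoc,
        ← mul_assoc x', (K.comm x' hx' y⁻¹ (inv_mem hy)).eq, mul_assoc]
    rw [e]; exact mul_mem h h'
  -- `B = B₀⟨a⟩`
  have gen : ∀ β ∈ B, β ∈ B₀ ∨ a⁻¹ * β ∈ B₀ ∨ (a * a)⁻¹ * β ∈ B₀ := by
    intro β hβ
    by_cases hb : β ∈ B₀
    · exact Or.inl hb
    obtain ⟨x, hx, hx0⟩ : ∃ x ∈ (S : Subgroup H), x ∉ S₀ := by
      by_contra hall
      push Not at hall
      have h1 := K.idx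
      rw [relIndex_eq_one.2 hall] at h1
      omega
    have hβx : (β * x * β⁻¹) * x⁻¹ ∉ S₀ := fun h => hb ⟨hβ, (four hβ hx hx0).1 h⟩
    have hax := K.conj_mem haB hx
    have haax := K.conj_mem haB hax
    have key : ∀ γ ∈ B, (β * x * β⁻¹) * (γ * x * γ⁻¹)⁻¹ ∈ S₀ → γ⁻¹ * β ∈ B₀ := by
      intro γ hγ h
      refine ⟨mul_mem (inv_mem hγ) hβ, (four (mul_mem (inv_mem hγ) hβ) hx hx0).1 ?_⟩
      have h2 := K.conj_mem₀ (inv_mem hγ) h
      convert h2 using 1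
      group
    by_cases h : (β * x * β⁻¹) * (a * x * a⁻¹)⁻¹ ∈ S₀
    · exact Or.inr (Or.inl (key a haB h))
    refine Or.inr (Or.inr (key (a * a) (mul_mem haB haB) ?_))
    rw [show a * a * x * (a * a)⁻¹ = a * (a * x * a⁻¹) * a⁻¹ by group]
    have h3 := (four haB hx hx0).2 (moves x hx hx0)
    -- `β x ≡ x · a x`
    haveI : (S₀.subgroupOf (S : Subgroup H)).Normal := normal_subgroupOf_of_le_normalizer hnS
    have hq : Nat.card ((S : Subgroup H) ⧸ S₀.subgroupOf S) = 4 := by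
      rw [← index_eq_card]; exact K.idx
    have h4 : (β * x * β⁻¹) * (x * (a * x * a⁻¹))⁻¹ ∈ S₀ := by
      haveI := Fintype.ofFinite ((S : Subgroup H) ⧸ S₀.subgroupOf S)
      by_contra hc
      let q : ∀ y, y ∈ (S : Subgroup H) → (S : Subgroup H) ⧸ S₀.subgroupOf S :=
        fun y hy => ((⟨y, hy⟩ : (S : Subgroup H)) : (S : Subgroup H) ⧸ S₀.subgroupOf S)
      have qne : ∀ y z (hy : y ∈ (S : Subgroup H)) (hz : z ∈ (S : Subgroup H)), y * z⁻¹ ∉ S₀ →
          q y hy ≠ q z hz := fun y z hy hz hn he => hn (by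
        have h5 := QuotientGroup.eq.1 he.symm
        rw [mem_subgroupOf] at h5
        rw [(K.comm y hy z⁻¹ (inv_mem hz)).eq]
        exact h5)
      have hx1 : x * (1 : H)⁻¹ ∉ S₀ := by simpa using hx0
      have h5 : ({q 1 (one_mem _), q x hx, q _ hax, q _ (mul_mem hx hax), q _ (K.conj_mem hβ hx)} :
          Finset _).card = 5 := by
        have n1 := qne x 1 hx (one_mem _) hx1
        have n2 := qne _ x hax hx (moves x hx hx0)
        have n3 := qne _ 1 hax (one_mem _) (by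
          rw [inv_one, mul_one]
          intro h6
          have h7 := K.conj_mem₀ (inv_mem haB) h6
          exact hx0 (by simpa [mul_assoc] using h7))
        have n4 := qne _ x (mul_mem hx hax) hx (by
          rw [(K.comm x hx _ hax).eq, mul_inv_cancel_right]
          intro h6
          have h7 := K.conj_mem₀ (inv_mem haB) h6
          exact hx0 (by simpa [mul_assoc] using h7))
        have n5 := qne _ _ (mul_mem hx hax) hax (by rw [mul_inv_cancel_right]; exact hx0)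
        have n6 := qne _ 1 (mul_mem hx hax) (one_mem _) (by
          rw [inv_one, mul_one]
          intro h6
          refine moves x hx hx0 ?_
          have e : a * x * a⁻¹ * x⁻¹ = x * (a * x * a⁻¹) * (x * x)⁻¹ := by
            rw [(K.comm x hx _ hax).eq]; group
          rw [e]
          exact mul_mem h6 (inv_mem (K.sq x hx)))
        have n7 := qne _ 1 (K.conj_mem hβ hx) (one_mem _) (by
          rw [inv_one, mul_one]
          intro h6
          have h7 := K.conj_mem₀ (inv_mem hβ) h6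
          exact hx0 (by simpa [mul_assoc] using h7))
        have n8 := qne _ x (K.conj_mem hβ hx) hx hβx
        have n9 := qne _ _ (K.conj_mem hβ hx) hax h
        have n10 := qne _ _ (K.conj_mem hβ hx) (mul_mem hx hax) hc
        simp [Finset.card_insert_of_notMem, n1.symm, n2.symm, n3.symm, n4.symm, n5.symm, n6.symm,
          n7.symm, n8.symm, n9.symm, n10.symm]
      have h6 := Finset.card_le_univ ({q 1 (one_mem _), q x hx, q _ hax, q _ (mul_mem hx hax),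
        q _ (K.conj_mem hβ hx)} : Finset _)
      rw [h5, ← Nat.card_eq_fintype_card, hq] at h6
      omega
    have h7 := mul_mem h4 (inv_mem h3)
    convert h7 using 1
    group
  -- the centraliser of `B₀`
  set R₀ : Subgroup H := (S : Subgroup H) ⊓ centralizer (B₀ : Set H) with hR₀
  have hR₀S : R₀ ≤ (S : Subgroup H) := inf_le_left
  have haR : ∀ γ ∈ B, ∀ r ∈ R₀, γ * r * γ⁻¹ ∈ R₀ := by
    intro γ hγ r hr
    refine ⟨K.conj_mem hγ hr.1, mem_centralizer_iff.2 fun β hβ => ?_⟩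
    have h := mem_centralizer_iff.1 hr.2 _ (hB₀n _ (inv_mem hγ) β hβ)
    rw [inv_inv] at h
    calc β * (γ * r * γ⁻¹) = γ * ((γ⁻¹ * β * γ) * r) * γ⁻¹ := by group
      _ = γ * (r * (γ⁻¹ * β * γ)) * γ⁻¹ := by rw [h]
      _ = γ * r * γ⁻¹ * β := by group
  have fix1 : ∀ r ∈ R₀, a * r * a⁻¹ = r → r = 1 := by
    intro r hr har
    refine K.fixed_eq_one hr.1 fun β hβ => ?_
    have hc : Commute a r := mul_inv_eq_iff_eq_mul.1 har
    rcases gen β hβ with h | h | h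
    · exact mem_centralizer_iff.1 hr.2 β h
    · have := hc.mul_left (show Commute (a⁻¹ * β) r from mem_centralizer_iff.1 hr.2 _ h)
      rwa [mul_inv_cancel_left] at this
    · have := (hc.mul_left hc).mul_left
        (show Commute ((a * a)⁻¹ * β) r from mem_centralizer_iff.1 hr.2 _ h)
      rwa [mul_inv_cancel_left] at this
  have a3 : a * a * a ∈ B₀ := by
    rcases gen (a * a * a) (mul_mem (mul_mem haB haB) haB) with h | h | h
    · exact h
    · rw [show a⁻¹ * (a * a * a) = a * a by group] at h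
      exfalso
      refine ha ?_
      obtain ⟨k, hk⟩ := odd_orderOf K.odd haB
      have e : a = (a * a) ^ (k + 1) := by
        rw [← pow_two, ← pow_mul, show 2 * (k + 1) = orderOf a + 1 by omega, pow_succ,
          pow_orderOf_eq_one, one_mul]
      rw [e]
      exact pow_mem h _
    · rw [show (a * a)⁻¹ * (a * a * a) = a by group] at h
      exact absurd h ha
  have norm3 : ∀ r ∈ R₀, r * (a * r * a⁻¹) * (a * (a * r * a⁻¹) * a⁻¹) = 1 := by
    intro r hr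
    set r₁ := a * r * a⁻¹ with hr₁
    set r₂ := a * r₁ * a⁻¹ with hr₂
    have h1 : r₁ ∈ R₀ := haR a haB r hr
    have h2 : r₂ ∈ R₀ := haR a haB r₁ h1
    have h3 : a * r₂ * a⁻¹ = r := by
      rw [hr₂, hr₁, show a * (a * (a * r * a⁻¹) * a⁻¹) * a⁻¹ = a * a * a * r * (a * a * a)⁻¹ by group]
      exact mul_inv_eq_iff_eq_mul.2 (mem_centralizer_iff.1 hr.2 _ a3)
    refine fix1 _ (mul_mem (mul_mem hr h1) h2) ?_
    rw [show a * (r * r₁ * r₂) * a⁻¹ = (a * r * a⁻¹) * (a * r₁ * a⁻¹) * (a * r₂ * a⁻¹) by group, h3,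
      ← hr₁, ← hr₂, (K.comm _ (mul_mem h1.1 h2.1) r hr.1).eq, ← mul_assoc]
  -- `R₀` covers `S / S₀`
  have hB₀S : B₀ ≤ normalizer ((S : Subgroup H) : Set H) := hB₀B.trans K.leN
  have hT : ⁅(S : Subgroup H), B₀⁆ ≤ S₀ := by
    rw [commutator_le]
    intro s hs β hβ
    have h := inv_mem (hβ.2 s hs)
    convert h using 1
    rw [commutatorElement_def]; group
  have cover : ∀ s ∈ (S : Subgroup H), ∃ t ∈ ⁅(S : Subgroup H), B₀⁆, ∃ r ∈ R₀, s = t * r :=
    fun s hs => by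
      obtain ⟨t, ht, r, hr, e⟩ := CfsgLib.Core.exists_mul_centralizing hB₀S (K.coprime le_rfl hB₀B)
        (Or.inr (haveI := (S.2 : IsPGroup 2 _).isNilpotent; inferInstance)) hs
      exact ⟨t, ht, r, hr, e⟩
  -- a shortest element outside
  have hne : ∃ k, ∃ r ∈ R₀, r ∉ S₀ ∧ orderOf r = 2 ^ k := by
    obtain ⟨x, hx, hx0⟩ : ∃ x ∈ (S : Subgroup H), x ∉ S₀ := by
      by_contra hall
      push Not at hall
      have h1 := K.idx
      rw [relIndex_eq_one.2 hall] at h1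
      omega
    obtain ⟨t, ht, r, hr, rfl⟩ := cover x hx
    obtain ⟨k, hk⟩ := (IsPGroup.iff_orderOf.1 S.2) ⟨r, hr.1⟩
    rw [Subgroup.orderOf_mk] at hk
    exact ⟨k, r, hr, fun h => hx0 (mul_mem (hT ht) h), hk⟩
  obtain ⟨r, hr, hr0, hrm⟩ := Nat.find_spec hne
  set m := Nat.find hne with hm
  have short : ∀ y ∈ R₀, y ∉ S₀ → ∀ k, y ^ 2 ^ k = 1 → m ≤ k := by
    intro y hy hy0 k hk
    obtain ⟨j, hj⟩ := (IsPGroup.iff_orderOf.1 S.2) ⟨y, hy.1⟩
    rw [Subgroup.orderOf_mk] at hj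
    have h1 : m ≤ j := Nat.find_le ⟨y, hy, hy0, hj⟩
    have h2 := orderOf_dvd_of_pow_eq_one hk
    rw [hj, Nat.pow_dvd_pow_iff_le_right (by norm_num)] at h2
    omega
  have hm1 : 1 ≤ m := by
    by_contra h
    rw [show m = 0 by omega, pow_zero, orderOf_eq_one_iff] at hrm
    exact hr0 (hrm ▸ S₀.one_mem)
  set r₁ := a * r * a⁻¹ with hr₁d
  have hr₁ : r₁ ∈ R₀ := haR a haB r hr
  have hrr : Commute r r₁ := K.comm r hr.1 r₁ hr₁.1
  have hrn : r ^ 2 ^ m = 1 := hrm ▸ pow_orderOf_eq_one r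
  have hr₁n : r₁ ^ 2 ^ m = 1 := by rw [hr₁d, conj_pow, hrn, mul_one, mul_inv_cancel]
  -- parity detects `S₀`
  have hr1S0 : r₁ ∉ S₀ := fun h => hr0 (by
    have h' := K.conj_mem₀ (inv_mem haB) h
    rw [hr₁d] at h'
    simpa [mul_assoc] using h')
  have hrr0 : r * r₁ ∉ S₀ := fun h => moves r hr.1 hr0 (by
    have e : a * r * a⁻¹ * r⁻¹ = r * r₁ * (r * r)⁻¹ := by rw [hrr.eq, hr₁d]; group
    rw [e]
    exact mul_mem h (inv_mem (K.sq r hr.1)))
  have even2 : ∀ (y : H), y ∈ (S : Subgroup H) → ∀ i, y ^ (2 * i) ∈ S₀ := fun y hy i => by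
    rw [pow_mul, pow_two]; exact pow_mem (K.sq y hy) i
  have par : ∀ i j : ℕ, r ^ i * r₁ ^ j ∈ S₀ → 2 ∣ i ∧ 2 ∣ j := by
    intro i j h
    rcases Nat.even_or_odd' i with ⟨i', rfl | rfl⟩ <;> rcases Nat.even_or_odd' j with ⟨j', rfl | rfl⟩
    · exact ⟨dvd_mul_right 2 _, dvd_mul_right 2 _⟩
    · rw [pow_succ, ← mul_assoc] at h
      exact absurd ((S₀.mul_mem_cancel_left (mul_mem (even2 r hr.1 i') (even2 r₁ hr₁.1 j'))).1 h) hr1S0
    · rw [pow_succ, mul_assoc, (hrr.pow_right (2 * j')).eq, ← mul_assoc] at h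
      exact absurd ((S₀.mul_mem_cancel_left (mul_mem (even2 r hr.1 i') (even2 r₁ hr₁.1 j'))).1 h) hr0
    · rw [pow_succ, pow_succ, Commute.mul_mul_mul_comm (hrr.pow_right _)] at h
      exact absurd ((S₀.mul_mem_cancel_left (mul_mem (even2 r hr.1 i') (even2 r₁ hr₁.1 j'))).1 h) hrr0
  have rel : ∀ (d : ℕ) (i j : ℕ), d ≤ m → r ^ i * r₁ ^ j = 1 → 2 ^ d ∣ i ∧ 2 ^ d ∣ j := by
    intro d
    induction d with
    | zero => intro i j _ _; exact ⟨one_dvd _, one_dvd _⟩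
    | succ d ih =>
      intro i j hd h
      obtain ⟨⟨i', rfl⟩, ⟨j', rfl⟩⟩ := ih i j (by omega) h
      rw [mul_comm (2 ^ d) i', mul_comm (2 ^ d) j', pow_mul, pow_mul,
        ← ((hrr.pow_pow i' j')).mul_pow] at h
      by_cases hin : r ^ i' * r₁ ^ j' ∈ S₀
      · obtain ⟨h1, h2⟩ := par _ _ hin
        rw [pow_succ]
        exact ⟨Nat.mul_dvd_mul_left _ h1, Nat.mul_dvd_mul_left _ h2⟩
      · have := short _ (mul_mem (pow_mem hr _) (pow_mem hr₁ _)) hin d h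
        omega
  haveI : NeZero (2 ^ m) := ⟨by positivity⟩
  obtain ⟨eR⟩ := homocyclic_pair hrr hrn hr₁n fun i j hi hj h => by
    obtain ⟨h1, h2⟩ := rel m i j le_rfl h
    exact ⟨Nat.eq_zero_of_dvd_of_lt h1 hi, Nat.eq_zero_of_dvd_of_lt h2 hj⟩
  set R := closure ({r, r₁} : Set H) with hRd
  have hRR₀ : R ≤ R₀ := by
    rw [hRd, closure_le]
    intro x hx
    rcases hx with h | h
    · subst h; exact hr
    · rw [Set.mem_singleton_iff] at h; subst h; exact hr₁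
  have hrR : r ∈ R := subset_closure (Set.mem_insert r {r₁})
  have hr₁R : r₁ ∈ R := subset_closure (Set.mem_insert_of_mem r (Set.mem_singleton r₁))
  have normR : ∀ x ∈ R, ∃ i j : ℕ, x = r ^ i * r₁ ^ j := by
    intro x hx
    have hn : zpowers r ≤ normalizer (zpowers r₁ : Set H) := fun u hu => centralizer_le_normalizer _
      (mem_centralizer_iff.2 fun v hv => by
        obtain ⟨p, rfl⟩ := mem_zpowers_iff.1 hu
        obtain ⟨q, rfl⟩ := mem_zpowers_iff.1 hv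
        exact ((hrr.zpow_left p).zpow_right q).eq.symm)
    have hle : R ≤ zpowers r ⊔ zpowers r₁ := by
      rw [hRd, closure_le]
      intro y hy
      rcases hy with h | h
      · subst h; exact mem_sup_left (mem_zpowers _)
      · rw [Set.mem_singleton_iff] at h; subst h; exact mem_sup_right (mem_zpowers _)
    obtain ⟨u, hu, v, hv, rfl⟩ := (CfsgLib.Core.mem_sup_iff_mul hn).1 (hle hx)
    obtain ⟨i, rfl⟩ := mem_powers_iff_mem_zpowers.2 hu
    obtain ⟨j, rfl⟩ := mem_powers_iff_mem_zpowers.2 hv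
    exact ⟨i, j, rfl⟩
  have hBR : B ≤ normalizer (R : Set H) := by
    have hfin : ∀ β ∈ B, ∀ x ∈ R, β * x * β⁻¹ ∈ R := by
      have hgenR : ∀ x ∈ R, a * x * a⁻¹ ∈ R := by
        intro x hx
        obtain ⟨i, j, rfl⟩ := normR x hx
        rw [show a * (r ^ i * r₁ ^ j) * a⁻¹ = (a * r ^ i * a⁻¹) * (a * r₁ ^ j * a⁻¹) by group,
          ← conj_pow, ← conj_pow]
        refine mul_mem (pow_mem hr₁R _) (pow_mem ?_ _)
        have h3 := norm3 r hr
        rw [mul_eq_one_iff_eq_inv'] at h3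
        show a * r₁ * a⁻¹ ∈ R
        rw [hr₁d, h3]
        exact inv_mem (mul_mem hrR hr₁R)
      have hc0 : ∀ β ∈ B₀, ∀ x ∈ R, β * x * β⁻¹ = x := fun β hβ x hx =>
        mul_inv_eq_iff_eq_mul.2 (mem_centralizer_iff.1 (hRR₀ hx).2 β hβ)
      intro β hβ x hx
      rcases gen β hβ with h | h | h
      · rw [hc0 β h x hx]; exact hx
      · have := hgenR _ hx
        rw [show β * x * β⁻¹ = a * ((a⁻¹ * β) * x * (a⁻¹ * β)⁻¹) * a⁻¹ by group, hc0 _ h x hx]
        exact this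
      · have := hgenR _ (hgenR _ hx)
        rw [show β * x * β⁻¹ = a * (a * (((a * a)⁻¹ * β) * x * ((a * a)⁻¹ * β)⁻¹) * a⁻¹) * a⁻¹ by group,
          hc0 _ h x hx]
        exact this
    exact le_normalizer_iff.2 hfin
  -- a complement of `R ⊓ S₀` in `R₀ ⊓ S₀`
  set U₀ := R₀ ⊓ S₀ with hU₀
  have hΩ : ∀ u ∈ U₀, u ^ 2 ^ (m - 1) ∈ R → u ^ 2 ^ (m - 1) = 1 := by
    intro u hu hue
    by_contra hne1
    obtain ⟨i, j, he⟩ := normR _ hue
    -- the largest power of two dividing both exponents is below `2 ^ m`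
    have hex : ∃ k, k < m ∧ ∃ i' j', i = 2 ^ k * i' ∧ j = 2 ^ k * j' ∧ ¬ (2 ∣ i' ∧ 2 ∣ j') := by
      have hnot : ¬ (2 ^ m ∣ i ∧ 2 ^ m ∣ j) := fun ⟨⟨i', hi⟩, ⟨j', hj⟩⟩ => hne1 (by
        rw [he, hi, hj, pow_mul, pow_mul, hrn, hr₁n, one_pow, one_pow, one_mul])
      have hd : ∃ d, ¬ (2 ^ d ∣ i ∧ 2 ^ d ∣ j) := ⟨m, hnot⟩
      have hk := Nat.find_spec hd
      have hpos : Nat.find hd ≠ 0 := fun h => by rw [h] at hk; simp at hk
      have hmin := Nat.find_min hd (show Nat.find hd - 1 < Nat.find hd by omega)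
      rw [not_not] at hmin
      obtain ⟨⟨i', hi⟩, ⟨j', hj⟩⟩ := hmin
      have hle : Nat.find hd ≤ m := Nat.find_le hnot
      refine ⟨Nat.find hd - 1, by omega, i', j', hi, hj, fun ⟨h1, h2⟩ => hk ?_⟩
      have e : 2 ^ Nat.find hd = 2 ^ (Nat.find hd - 1) * 2 := by
        rw [← pow_succ, Nat.sub_add_cancel (by omega)]
      rw [e]
      exact ⟨(Nat.mul_dvd_mul_left _ h1).trans (dvd_of_eq hi.symm),
        (Nat.mul_dvd_mul_left _ h2).trans (dvd_of_eq hj.symm)⟩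
    obtain ⟨k, hk, i', j', rfl, rfl, hpar⟩ := hex
    set y := r ^ i' * r₁ ^ j' with hy
    have hy0 : y ∉ S₀ := fun h => hpar (par _ _ h)
    have hyk : y ^ 2 ^ k = u ^ 2 ^ (m - 1) := by
      rw [he, hy, (hrr.pow_pow i' j').mul_pow, ← pow_mul, ← pow_mul, mul_comm i', mul_comm j']
    set w := u ^ 2 ^ (m - 1 - k) with hw
    have hwk : w ^ 2 ^ k = u ^ 2 ^ (m - 1) := by
      rw [hw, ← pow_mul, ← pow_add, Nat.sub_add_cancel (by omega)]
    have hyR : y ∈ R₀ := mul_mem (pow_mem hr _) (pow_mem hr₁ _)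
    have hwU : w ∈ U₀ := pow_mem hu _
    have h1 := short (y * w⁻¹) (mul_mem hyR (inv_mem hwU.1))
      (fun h => hy0 (by simpa using mul_mem h hwU.2)) k (by
        rw [(K.comm y hyR.1 _ (inv_mem hwU.1.1)).mul_pow, inv_pow, hwk, hyk, mul_inv_cancel])
    omega
  obtain ⟨Ω, hΩd⟩ : ∃ Ω : Subgroup H, ∀ x, x ∈ Ω ↔ ∃ u ∈ U₀, u ^ 2 ^ (m - 1) = x :=
    ⟨{ carrier := {x | ∃ u ∈ U₀, u ^ 2 ^ (m - 1) = x}
       one_mem' := ⟨1, one_mem _, one_pow _⟩
       mul_mem' := by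
        rintro _ _ ⟨u, hu, rfl⟩ ⟨v, hv, rfl⟩
        exact ⟨u * v, mul_mem hu hv, (K.comm u hu.1.1 v hv.1.1).mul_pow _⟩
       inv_mem' := by
        rintro _ ⟨u, hu, rfl⟩
        exact ⟨u⁻¹, inv_mem hu, inv_pow _ _⟩ }, fun x => Iff.rfl⟩
  obtain ⟨C, ⟨hΩC, hCU, hCR⟩, hCmax⟩ := Set.Finite.exists_maximal
    (s := {C : Subgroup H | Ω ≤ C ∧ C ≤ U₀ ∧ C ⊓ R = ⊥}) (Set.toFinite _)
    ⟨Ω, le_rfl, fun x hx => by
      obtain ⟨u, hu, rfl⟩ := (hΩd x).1 hx; exact pow_mem hu _,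
      (eq_bot_iff_forall _).2 fun x ⟨hx, hxR⟩ => by
        obtain ⟨u, hu, rfl⟩ := (hΩd x).1 hx; exact hΩ u hu hxR⟩
  have hCS : C ≤ (S : Subgroup H) := hCU.trans (inf_le_left.trans hR₀S)
  set T := (R ⊓ S₀) ⊔ C with hTd
  have hTU : T ≤ U₀ := sup_le (inf_le_inf_right _ hRR₀) hCU
  have hRU : ∀ x ∈ R ⊓ S₀, ∃ y ∈ R, x = y * y := by
    rintro x ⟨hx, hx0⟩
    obtain ⟨i, j, rfl⟩ := normR x hx
    obtain ⟨⟨i', rfl⟩, ⟨j', rfl⟩⟩ := par i j hx0
    refine ⟨r ^ i' * r₁ ^ j', mul_mem (pow_mem hrR _) (pow_mem hr₁R _), ?_⟩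
    rw [← pow_two, (hrr.pow_pow i' j').mul_pow, ← pow_mul, ← pow_mul, mul_comm i', mul_comm j']
  have hU₀T : U₀ ≤ T := by
    by_contra hnot
    obtain ⟨s, hsU, hsT⟩ := SetLike.not_le_iff_exists.1 hnot
    obtain ⟨k, hk⟩ := (IsPGroup.iff_orderOf.1 S.2) ⟨s, hsU.1.1⟩
    rw [Subgroup.orderOf_mk] at hk
    have hex : ∃ e, s ^ 2 ^ e ∈ T := ⟨k, by rw [← hk, pow_orderOf_eq_one]; exact T.one_mem⟩
    have hepos : Nat.find hex ≠ 0 := fun h => hsT (by
      have := Nat.find_spec hex; rwa [h, pow_zero, pow_one] at this)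
    set t := s ^ 2 ^ (Nat.find hex - 1) with htd
    have htU : t ∈ U₀ := pow_mem hsU _
    have htT : t ∉ T := Nat.find_min hex (by omega)
    have httT : t * t ∈ T := by
      rw [htd, ← pow_two, ← pow_mul, ← pow_succ, Nat.sub_add_cancel (by omega)]
      exact Nat.find_spec hex
    have hnC : (R ⊓ S₀) ≤ normalizer (C : Set H) := fun x hx => centralizer_le_normalizer _
      (mem_centralizer_iff.2 fun c hc => (K.comm c (hCS hc) x (hR₀S (hRR₀ hx.1))).eq)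
    obtain ⟨x, hx, c, hc, hxc⟩ := (CfsgLib.Core.mem_sup_iff_mul hnC).1 httT
    obtain ⟨y, hy, hxy, hy0⟩ : ∃ y ∈ R, x = y * y ∧ y ∈ S₀ := by
      obtain ⟨y, hy, rfl⟩ := hRU x hx
      by_cases hy0 : y ∈ S₀
      · exact ⟨y, hy, rfl, hy0⟩
      exfalso
      have hyS := hR₀S (hRR₀ hy)
      by_cases hm2 : m = 1
      · refine hy0 ?_
        have : y * y = 1 := by
          obtain ⟨i, j, rfl⟩ := normR y hy
          rw [← pow_two, (hrr.pow_pow i j).mul_pow, ← pow_mul, ← pow_mul, mul_comm i, mul_comm j,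
            pow_mul, pow_mul]
          have h2 : 2 ^ m = 2 := by rw [hm2, pow_one]
          rw [h2] at hrn hr₁n
          rw [hrn, hr₁n, one_pow, one_pow, one_mul]
        have hΩ' : ∀ u ∈ U₀, u ∈ C := fun u hu => hΩC ((hΩd u).2 ⟨u, hu, by
          rw [hm2, Nat.sub_self, pow_zero, pow_one]⟩)
        exact absurd (mem_sup_right (hΩ' t htU)) htT
      · -- `x ^ 2 ^ (m-2) ∈ C ⊓ R`
        have h1 : (t * t) ^ 2 ^ (m - 2) ∈ C := by
          rw [← pow_two, ← pow_mul, ← pow_succ', show m - 2 + 1 = m - 1 by omega]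
          exact hΩC ((hΩd _).2 ⟨t, htU, rfl⟩)
        rw [hxc, (K.comm _ (mul_mem hyS hyS) c (hCS hc)).mul_pow] at h1
        have h2 : (y * y) ^ 2 ^ (m - 2) ∈ C ⊓ R :=
          ⟨(C.mul_mem_cancel_right (pow_mem hc _)).1 h1, pow_mem (mul_mem hy hy) _⟩
        rw [hCR, mem_bot, ← pow_two, ← pow_mul, ← pow_succ', show m - 2 + 1 = m - 1 by omega] at h2
        have := short y (hRR₀ hy) hy0 (m - 1) h2
        omega
    have hy' : y ∈ R ⊓ S₀ := ⟨hy, hy0⟩
    have hyS := hR₀S (hRR₀ hy)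
    set t' := t * y⁻¹ with ht'
    have ht'U : t' ∈ U₀ := mul_mem htU (inv_mem (⟨hRR₀ hy, hy0⟩ : y ∈ U₀))
    have ht't : t' ∉ T := fun h => htT (by
      have := mul_mem h (mem_sup_left hy' : y ∈ T); rwa [ht', inv_mul_cancel_right] at this)
    have ht'2 : t' * t' = c := by
      rw [ht', Commute.mul_mul_mul_comm (K.comm y⁻¹ (inv_mem hyS) t htU.1.1), hxc, hxy,
        (K.comm _ (mul_mem hyS hyS) c (hCS hc)).eq]
      group
    have hnC' : zpowers t' ≤ normalizer (C : Set H) := zpowers_le.2 (centralizer_le_normalizer _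
      (mem_centralizer_iff.2 fun d hd => (K.comm d (hCS hd) t' ht'U.1.1).eq))
    refine ht't (hCmax ⟨hΩC.trans le_sup_right, sup_le (zpowers_le.2 ht'U) hCU, ?_⟩ le_sup_right
      (mem_sup_left (mem_zpowers t')) |> mem_sup_right)
    refine (eq_bot_iff_forall _).2 fun z ⟨hz, hzR⟩ => ?_
    obtain ⟨u, hu, d, hd, rfl⟩ := (CfsgLib.Core.mem_sup_iff_mul hnC').1 hz
    obtain ⟨n, rfl⟩ := mem_zpowers_iff.1 hu
    have hc2 : t' * t' ∈ C := ht'2 ▸ hc
    rcases Int.even_or_odd n with ⟨q, rfl⟩ | ⟨q, rfl⟩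
    · have h1 : t' ^ (q + q) * d ∈ C ⊓ R := ⟨mul_mem (by
        rw [← two_mul, zpow_mul, zpow_two]; exact zpow_mem hc2 q) hd, hzR⟩
      rwa [hCR, mem_bot] at h1
    · exfalso
      refine ht't ?_
      have h2 : t' ^ (2 * q) ∈ C := by rw [zpow_mul, zpow_two]; exact C.zpow_mem hc2 q
      have hS0z : t' ^ (2 * q + 1) * d ∈ S₀ := mul_mem (S₀.zpow_mem ht'U.2 _) (hCU hd).2
      have hzT : t' ^ (2 * q + 1) * d ∈ T := mem_sup_left ⟨hzR, hS0z⟩
      rw [T.mul_mem_cancel_right (mem_sup_right hd), zpow_add, zpow_one,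
        T.mul_mem_cancel_left (mem_sup_right h2)] at hzT
      exact hzT
  -- assemble
  set X := C ⊔ ⁅(S : Subgroup H), B₀⁆ with hXd
  have hTS : ⁅(S : Subgroup H), B₀⁆ ≤ (S : Subgroup H) := hT.trans K.le₀
  have hXS : X ≤ (S : Subgroup H) := sup_le hCS hTS
  have hbot : ((S : Subgroup H) ⊓ centralizer (B₀ : Set H)) ⊓ ⁅(S : Subgroup H), B₀⁆ = ⊥ := by
    haveI := K.comm'
    exact CfsgLib.Core.abelian_inf_eq_bot hB₀S (K.coprime le_rfl hB₀B)
  have hRX : R ⊓ X = ⊥ := by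
    refine (eq_bot_iff_forall _).2 fun x ⟨hx, hxX⟩ => ?_
    obtain ⟨c, hc, t, ht, rfl⟩ := (CfsgLib.Core.mem_sup_iff_mul
      (show C ≤ normalizer ((⁅(S : Subgroup H), B₀⁆ : Subgroup H) : Set H) from
        hCS.trans (normalizer_commutator_ge_left _ _))).1 hxX
    have ht' : t ∈ R₀ := (R₀.mul_mem_cancel_left (hCU hc).1).1 (hRR₀ hx)
    have : t ∈ ((S : Subgroup H) ⊓ centralizer (B₀ : Set H)) ⊓ ⁅(S : Subgroup H), B₀⁆ := ⟨ht', ht⟩
    rw [hbot, mem_bot] at this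
    subst this
    rw [mul_one] at hx ⊢
    have h2 : c ∈ C ⊓ R := ⟨hc, hx⟩
    rwa [hCR, mem_bot] at h2
  have hRXS : R ⊔ X = (S : Subgroup H) := by
    refine le_antisymm (sup_le (hRR₀.trans hR₀S) hXS) fun s hs => ?_
    obtain ⟨t, ht, q, hq, rfl⟩ := cover s hs
    refine mul_mem (mem_sup_right (mem_sup_right ht)) ?_
    -- `q` meets one of the cosets of `R`
    obtain ⟨y, hy, hqy⟩ : ∃ y ∈ R, q * y⁻¹ ∈ S₀ := by
      by_cases h0 : q ∈ S₀
      · exact ⟨1, R.one_mem, by simpa using h0⟩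
      haveI : (S₀.subgroupOf (S : Subgroup H)).Normal := normal_subgroupOf_of_le_normalizer hnS
      haveI := Fintype.ofFinite ((S : Subgroup H) ⧸ S₀.subgroupOf S)
      let f : Fin 2 × Fin 2 → (S : Subgroup H) ⧸ S₀.subgroupOf S := fun p =>
        ((⟨r ^ (p.1 : ℕ) * r₁ ^ (p.2 : ℕ), mul_mem (pow_mem hr.1 _) (pow_mem hr₁.1 _)⟩ :
          (S : Subgroup H)) : (S : Subgroup H) ⧸ S₀.subgroupOf S)
      have hf : Function.Injective f := by
        rintro ⟨i, j⟩ ⟨i', j'⟩ h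
        have h1 := QuotientGroup.eq.1 h
        rw [mem_subgroupOf] at h1
        simp only [Subgroup.coe_mul, Subgroup.coe_inv] at h1
        have h2 : r ^ ((i : ℕ) + i') * r₁ ^ ((j : ℕ) + j') ∈ S₀ := by
          have hx : r ^ (i : ℕ) * r₁ ^ (j : ℕ) ∈ (S : Subgroup H) :=
            mul_mem (pow_mem hr.1 _) (pow_mem hr₁.1 _)
          have e : r ^ ((i : ℕ) + i') * r₁ ^ ((j : ℕ) + j') =
              ((r ^ (i : ℕ) * r₁ ^ (j : ℕ)) * (r ^ (i : ℕ) * r₁ ^ (j : ℕ))) *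
                ((r ^ (i : ℕ) * r₁ ^ (j : ℕ))⁻¹ * (r ^ (i' : ℕ) * r₁ ^ (j' : ℕ))) := by
            rw [← mul_assoc _ ((r ^ (i : ℕ) * r₁ ^ (j : ℕ))⁻¹), mul_inv_cancel_right, pow_add, pow_add]
            exact Commute.mul_mul_mul_comm (hrr.pow_pow _ _) _ _
          rw [e]
          exact mul_mem (K.sq _ hx) h1
        obtain ⟨h3, h4⟩ := par _ _ h2
        exact Prod.ext (Fin.ext (by simp only; have := i.2; have := i'.2; omega))
          (Fin.ext (by simp only; have := j.2; have := j'.2; omega))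
      obtain ⟨p, hp⟩ := (hf.bijective_of_nat_card_le (by
        rw [← index_eq_card, Nat.card_prod, Nat.card_fin]; exact K.idx.le)).2
        ((⟨q, hq.1⟩ : (S : Subgroup H)) : (S : Subgroup H) ⧸ S₀.subgroupOf S)
      refine ⟨r ^ (p.1 : ℕ) * r₁ ^ (p.2 : ℕ), mul_mem (pow_mem hrR _) (pow_mem hr₁R _), ?_⟩
      have h1 := QuotientGroup.eq.1 hp
      rw [mem_subgroupOf] at h1
      rw [(K.comm q hq.1 _ (Subgroup.inv_mem _ (mul_mem (pow_mem hr.1 _) (pow_mem hr₁.1 _)))).eq]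
      exact h1
    have hqU : q * y⁻¹ ∈ U₀ := ⟨mul_mem hq (R₀.inv_mem (hRR₀ hy)), hqy⟩
    have h1 : T ≤ R ⊔ X := sup_le (inf_le_left.trans le_sup_left) (le_sup_left.trans le_sup_right)
    simpa using mul_mem (h1 (hU₀T hqU)) (mem_sup_left hy : y ∈ R ⊔ X)
  obtain ⟨W, hWS, hBW, hRW, hRWS⟩ := CfsgLib.PLocal.exists_invariant_complement K.comm' K.leN
    (K.coprime le_rfl le_rfl) (hRR₀.trans hR₀S) hBR hXS hRX hRXS
  exact ⟨m, hm1, R, W, hRR₀.trans hR₀S, hWS, hBR, hBW, hRW, hRWS, ⟨eR⟩⟩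

end AbCtx

end CfsgLib.TwoGroups.CentreIndexFour
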