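import Cfsg.Agent.Lib.TwoGroups.CentreIndexFour.Transvections

/-!
Owner: helper2.  Conjugates of the commutator in an abelian maximal subgroup (for S4594).
-/

set_option autoImplicit false
set_option linter.unusedSectionVars false
set_option linter.style.haveILetI false

namespace CfsgLib.TwoGroups.CentreIndexFour

open Subgroup

/-- The automorphism that an element of the normaliser induces. -/
def autOf {G : Type*} [Group G] (A : Subgroup G) : normalizer (A : Set G) →* MulAut A :=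
  A.normalizerMonoidHom

theorem autOf_apply {G : Type*} [Group G] (A : Subgroup G) (n : normalizer (A : Set G)) (v : A) :
    ((autOf A n v : A) : G) = n * v * (n : G)⁻¹ :=
  rfl

namespace NaCtx

variable {G : Type*} [Group G] [Finite G] {S : Sylow 2 G} {c : G} (K : NaCtx S c)

include K

theorem normalizer_fix {n : G} (hn : n ∈ normalizer ((S : Subgroup G) : Set G)) : n * c * n⁻¹ = c := by
  obtain ⟨a, ha, b, hb, hab⟩ := K.ex
  have e := K.comm_eq ha hb hab
  have ha' := (mem_normalizer_iff.1 hn a).1 ha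
  have hb' := (mem_normalizer_iff.1 hn b).1 hb
  have h1 : (n * a * n⁻¹) * (n * b * n⁻¹) * (n * a * n⁻¹)⁻¹ = (n * b * n⁻¹) * (n * c * n⁻¹) := by
    calc (n * a * n⁻¹) * (n * b * n⁻¹) * (n * a * n⁻¹)⁻¹ = n * (a * b * a⁻¹) * n⁻¹ := by group
      _ = _ := by rw [e]; group
  rcases K.comm _ ha' _ hb' with h | h
  · rw [h] at h1
    exact absurd (left_eq_mul.1 h1) fun h2 => K.c_ne_one (conj_eq_one_iff.1 h2)
  · rw [h] at h1
    exact (mul_left_cancel h1).symm

/-- A conjugate of `c` in the centre is `c`. -/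
theorem eq_of_conj_center {v g : G} (hv : v ∈ sylCenter S) (h : g * c * g⁻¹ = v) : v = c := by
  haveI : Fact (Nat.Prime 2) := ⟨Nat.prime_two⟩
  obtain ⟨n, hn, e⟩ := exists_normalizer_conj_central S K.cen (mem_sylCenter.1 hv).2 h
  rw [← e, K.normalizer_fix hn]

theorem conj_c_sq (g : G) : (g * c * g⁻¹) * (g * c * g⁻¹) = 1 := by
  rw [show (g * c * g⁻¹) * (g * c * g⁻¹) = g * (c * c) * g⁻¹ by group, K.c_sq, mul_one, mul_inv_cancel]

variable {a y : G} (ha : a ∈ (S : Subgroup G)) (ha0 : a ∉ sylCenter S) (hy : y ∈ (S : Subgroup G))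
  (hya : ¬ Commute y a)

include ha ha0 hy hya

/-- The automiser has a transvection generating a Sylow 2-subgroup. -/
theorem aut_setup :
    ∃ (u : MulAut (abMax S a)) (z : abMax S a), (z : G) = c ∧
      (∀ v : abMax S a, ((u v : abMax S a) : G) = y * v * y⁻¹) ∧
      (∀ v w : abMax S a, v * w = w * v) ∧ z ^ 2 = 1 ∧ u ∈ (autOf (abMax S a)).range ∧
      (∀ v, ∃ i : ℕ, u v = v * z ^ i) ∧ u z = z ∧ u ≠ 1 ∧ u * u = 1 ∧
      (∀ H : Subgroup (MulAut (abMax S a)), H ≤ (autOf (abMax S a)).range → IsPGroup 2 H → u ∈ H →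
        H ≤ zpowers u) := by
  haveI : Fact (Nat.Prime 2) := ⟨Nat.prime_two⟩
  classical
  set A := abMax S a with hA
  have hSN : (S : Subgroup G) ≤ normalizer (A : Set G) := K.le_normalizer_abMax ha
  have hcA : c ∈ A := sylCenter_le_abMax ha K.c_mem_center
  set u : MulAut A := autOf A ⟨y, hSN hy⟩ with hu
  set z : A := ⟨c, hcA⟩ with hz
  have huv : ∀ v : A, ((u v : A) : G) = y * v * y⁻¹ := fun v => rfl
  have hcomm : ∀ v w : A, v * w = w * v := fun v w => Subtype.ext (K.abMax_comm ha ha0 v.2 w.2)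
  have hz2 : z ^ 2 = 1 := Subtype.ext (by rw [SubmonoidClass.coe_pow, pow_two]; exact K.c_sq)
  have hshift : ∀ v, ∃ i : ℕ, u v = v * z ^ i := by
    intro v
    rcases K.comm y hy v (mem_abMax.1 v.2).1 with h | h
    · exact ⟨0, Subtype.ext (by rw [pow_zero, mul_one, huv, h])⟩
    · exact ⟨1, Subtype.ext (by rw [pow_one, huv, h]; rfl)⟩
  have huz : u z = z := Subtype.ext (by rw [huv]; exact mul_inv_eq_iff_eq_mul.2 (K.cen y hy).eq)
  have hu1 : u ≠ 1 := fun h => by
    refine hya (mul_inv_eq_iff_eq_mul.1 ?_)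
    have h1 : ((u ⟨a, mem_abMax.2 ⟨ha, Commute.refl a⟩⟩ : A) : G) = a := by rw [h]; rfl
    rw [huv] at h1
    exact h1
  have huu : u * u = 1 := MulEquiv.ext fun v => Subtype.ext (by
    show ((u (u v) : A) : G) = v
    rw [huv, huv, show y * (y * (v : G) * y⁻¹) * y⁻¹ = (y * y) * v * (y * y)⁻¹ by group,
      mul_inv_eq_iff_eq_mul]
    exact (K.sq y hy v (mem_abMax.1 v.2).1).eq.symm)
  refine ⟨u, z, rfl, huv, hcomm, hz2, ⟨_, rfl⟩, hshift, huz, hu1, huu, ?_⟩
  -- the image of a Sylow subgroup has order two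
  set φ := autOf A with hφ
  set T : Sylow 2 φ.range := (S.subtype hSN).mapSurjective φ.rangeRestrict_surjective with hT
  have hTle : (T : Subgroup φ.range).map φ.range.subtype ≤ zpowers u := by
    rintro _ ⟨w, hw, rfl⟩
    rw [hT, Sylow.coe_mapSurjective] at hw
    obtain ⟨⟨s, hs⟩, hsS, rfl⟩ := hw
    have hs' : s ∈ (S : Subgroup G) := hsS
    rcases K.outside ha ha0 hy hya hs' with h | h
    · have : φ ⟨s, hs⟩ = 1 := MulEquiv.ext fun v => Subtype.ext (by
        show s * v * s⁻¹ = (v : G)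
        rw [mul_inv_eq_iff_eq_mul]
        exact (K.abMax_comm ha ha0 h v.2).eq)
      show φ ⟨s, hs⟩ ∈ zpowers u
      rw [this]; exact one_mem _
    · have : φ ⟨s, hs⟩ = u := MulEquiv.ext fun v => Subtype.ext (by
        show s * v * s⁻¹ = y * v * y⁻¹
        have h1 := mul_inv_eq_iff_eq_mul.2 (K.abMax_comm ha ha0 h v.2).eq
        calc s * v * s⁻¹ = y * ((y⁻¹ * s) * v * (y⁻¹ * s)⁻¹) * y⁻¹ := by group
          _ = _ := by rw [h1])
      show φ ⟨s, hs⟩ ∈ zpowers u
      rw [this]; exact mem_zpowers u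
  intro H hH hHp huH
  obtain ⟨T', hT'⟩ := (hHp.of_equiv (subgroupOfEquivOfLe hH).symm).exists_le_sylow
  have h1 : Nat.card H ≤ Nat.card (zpowers u) := by
    rw [← Nat.card_congr (subgroupOfEquivOfLe hH).toEquiv]
    refine le_trans (Nat.le_of_dvd Nat.card_pos (card_dvd_of_le hT')) ?_
    rw [T'.card_eq_multiplicity, ← T.card_eq_multiplicity,
      Nat.card_congr ((T : Subgroup φ.range).equivMapOfInjective _ φ.range.subtype_injective).toEquiv]
    exact Nat.le_of_dvd Nat.card_pos (card_dvd_of_le hTle)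
  exact (eq_of_le_of_card_ge (zpowers_le.2 huH) h1).ge

/-- Elements of the normaliser fixing `c` preserve the centre of `S`. -/
theorem fix_preserves {δ : G} (hδ : δ ∈ normalizer (abMax S a : Set G)) (hδc : δ * c * δ⁻¹ = c)
    {v : G} (hv : v ∈ sylCenter S) : δ * v * δ⁻¹ ∈ sylCenter S := by
  haveI : Fact (Nat.Prime 2) := ⟨Nat.prime_two⟩
  obtain ⟨u, z, hz, huv, hcomm, hz2, huG, hshift, huz, hu1, huu, hmax⟩ := K.aut_setup ha ha0 hy hya
  set γ : MulAut (abMax S a) := autOf (abMax S a) ⟨δ, hδ⟩ with hγ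
  have hγz : γ z = z := Subtype.ext (by rw [hγ, autOf_apply, hz, hδc])
  have hmem : γ * u * γ⁻¹ ∈ zpowers u := by
    by_contra h
    refine (CfsgLib.PGroups.Transvections.center_moved hcomm hz2 huG hshift huz hmax ⟨_, rfl⟩ h).1 ?_
    rw [hγz, huz]
  have hconj : γ * u * γ⁻¹ = u := by
    obtain ⟨n, hn⟩ := mem_powers_iff_mem_zpowers.2 hmem
    rcases Nat.mod_two_eq_zero_or_one n with h | h
    · exfalso
      refine hu1 ((conj_eq_one_iff (a := γ)).1 ?_)
      rw [← hn]
      show u ^ n = 1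
      rw [pow_eq_pow_mod n (show u ^ 2 = 1 by rw [pow_two, huu]), h, pow_zero]
    · rw [← hn]
      show u ^ n = u
      rw [pow_eq_pow_mod n (show u ^ 2 = 1 by rw [pow_two, huu]), h, pow_one]
  have hvA : v ∈ (abMax S a) := sylCenter_le_abMax ha hv
  have huv0 : u ⟨v, hvA⟩ = ⟨v, hvA⟩ :=
    Subtype.ext (by rw [huv]; exact mul_inv_eq_iff_eq_mul.2 ((mem_sylCenter.1 hv).2 y hy).eq)
  have h1 : u (γ ⟨v, hvA⟩) = γ ⟨v, hvA⟩ := by
    conv_lhs => rw [← hconj]
    rw [MulAut.mul_apply, MulAut.mul_apply, MulAut.inv_apply_self, huv0]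
  have h2 := congrArg Subtype.val h1
  rw [huv, hγ, autOf_apply] at h2
  have hA' : δ * v * δ⁻¹ ∈ (abMax S a) := (mem_normalizer_iff.1 hδ v).1 hvA
  refine mem_sylCenter.2 ⟨(mem_abMax.1 hA').1, fun s hs => ?_⟩
  rcases K.outside ha ha0 hy hya hs with h | h
  · exact K.abMax_comm ha ha0 h hA'
  · have hyv : Commute y (δ * v * δ⁻¹) := mul_inv_eq_iff_eq_mul.1 h2
    have := hyv.mul_left (K.abMax_comm ha ha0 h hA')
    rwa [mul_inv_cancel_left] at this

/-- The conjugates of `c` under the normaliser. -/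
theorem conj_cases {n n' : G} (hn : n ∈ normalizer (abMax S a : Set G)) (hne : n * c * n⁻¹ ≠ c)
    (hn' : n' ∈ normalizer (abMax S a : Set G)) :
    n' * c * n'⁻¹ = c ∨ n' * c * n'⁻¹ = n * c * n⁻¹ ∨ n' * c * n'⁻¹ = c * (n * c * n⁻¹) := by
  haveI : Fact (Nat.Prime 2) := ⟨Nat.prime_two⟩
  obtain ⟨u, z, hz, huv, hcomm, hz2, huG, hshift, huz, hu1, huu, hmax⟩ := K.aut_setup ha ha0 hy hya
  set γ : MulAut (abMax S a) := autOf (abMax S a) ⟨n, hn⟩ with hγ
  have ht : γ * u * γ⁻¹ ∉ zpowers u := fun h => by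
    refine hne (K.eq_of_conj_center ?_ rfl)
    have hcA : n * c * n⁻¹ ∈ (abMax S a) :=
      (mem_normalizer_iff.1 hn c).1 (sylCenter_le_abMax ha K.c_mem_center)
    obtain ⟨k, hk⟩ := mem_powers_iff_mem_zpowers.2 h
    have hconj : γ * u * γ⁻¹ = u := by
      rcases Nat.mod_two_eq_zero_or_one k with h' | h'
      · exfalso
        refine hu1 ((conj_eq_one_iff (a := γ)).1 ?_)
        rw [← hk]
        show u ^ k = 1
        rw [pow_eq_pow_mod k (show u ^ 2 = 1 by rw [pow_two, huu]), h', pow_zero]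
      · rw [← hk]
        show u ^ k = u
        rw [pow_eq_pow_mod k (show u ^ 2 = 1 by rw [pow_two, huu]), h', pow_one]
    have h1 : u (γ z) = γ z := by
      conv_lhs => rw [← hconj]
      rw [MulAut.mul_apply, MulAut.mul_apply, MulAut.inv_apply_self, huz]
    have h2 := congrArg Subtype.val h1
    rw [huv, hγ, autOf_apply, hz] at h2
    refine mem_sylCenter.2 ⟨(mem_abMax.1 hcA).1, fun s hs => ?_⟩
    rcases K.outside ha ha0 hy hya hs with h3 | h3
    · exact K.abMax_comm ha ha0 h3 hcA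
    · have := (show Commute y (n * c * n⁻¹) from mul_inv_eq_iff_eq_mul.1 h2).mul_left
        (K.abMax_comm ha ha0 h3 hcA)
      rwa [mul_inv_cancel_left] at this
  obtain ⟨h, -⟩ := CfsgLib.PGroups.Transvections.two_transvections hcomm hz2 huG hshift huz hmax
    ⟨_, rfl⟩ ht (autOf (abMax S a) ⟨n', hn'⟩) ⟨_, rfl⟩
  rcases h with h | h | h
  · left; have := congrArg Subtype.val h; rwa [autOf_apply, hz] at this
  · right; left; have := congrArg Subtype.val h; rwa [autOf_apply, autOf_apply, hz] at this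
  · right; right; have := congrArg Subtype.val h
    rwa [autOf_apply, Subgroup.coe_mul, autOf_apply, hz] at this

/-- (abMax S a) conjugate of `c` in the coset is a conjugate by an element centralising the commutators of the
centre with the complement. -/
theorem exists_move {g : G} (hag : a = g * c * g⁻¹) :
    ∃ m, m * c * m⁻¹ = a ∧ ∀ β ∈ normalizer ((S : Subgroup G) : Set G), Commute β a →
      ∀ v ∈ sylCenter S, Commute m (β * v * β⁻¹ * v⁻¹) := by
  haveI : Fact (Nat.Prime 2) := ⟨Nat.prime_two⟩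
  obtain ⟨n, hn, hnz⟩ := K.exists_conj_center ha ha0 (g := g) (by
    rw [hag, show g⁻¹ * (g * c * g⁻¹) * g = c by group]; exact K.c_mem_center)
  have hna : n⁻¹ * a * n = c := K.eq_of_conj_center hnz (g := n⁻¹ * g) (by rw [hag]; group)
  have hnc : n * c * n⁻¹ = a := by rw [← hna]; group
  have hane : a ≠ c := fun h => ha0 (h ▸ K.c_mem_center)
  obtain ⟨u, z, hz, huv, hcomm, hz2, huG, hshift, huz, hu1, huu, hmax⟩ := K.aut_setup ha ha0 hy hya
  set γ : MulAut (abMax S a) := autOf (abMax S a) ⟨n, hn⟩ with hγ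
  have hγz : ((γ z : (abMax S a)) : G) = a := by rw [hγ, autOf_apply, hz, hnc]
  have hua : y * a * y⁻¹ = a * c := K.comm_eq hy ha hya
  have ht : γ * u * γ⁻¹ ∉ zpowers u := fun h => by
    obtain ⟨k, hk⟩ := mem_powers_iff_mem_zpowers.2 h
    have hconj : γ * u * γ⁻¹ = u := by
      rcases Nat.mod_two_eq_zero_or_one k with h' | h'
      · exfalso
        refine hu1 ((conj_eq_one_iff (a := γ)).1 ?_)
        rw [← hk]
        show u ^ k = 1
        rw [pow_eq_pow_mod k (show u ^ 2 = 1 by rw [pow_two, huu]), h', pow_zero]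
      · rw [← hk]
        show u ^ k = u
        rw [pow_eq_pow_mod k (show u ^ 2 = 1 by rw [pow_two, huu]), h', pow_one]
    have h1 : u (γ z) = γ z := by
      conv_lhs => rw [← hconj]
      rw [MulAut.mul_apply, MulAut.mul_apply, MulAut.inv_apply_self, huz]
    have h2 := congrArg Subtype.val h1
    rw [huv, hγz] at h2
    exact hya (mul_inv_eq_iff_eq_mul.1 h2)
  have hy' : ∀ v : (abMax S a), (((γ * u * γ⁻¹) v : (abMax S a)) : G) = (n * y * n⁻¹) * v * (n * y * n⁻¹)⁻¹ := by
    intro v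
    have e : ((γ⁻¹ v : (abMax S a)) : G) = n⁻¹ * v * n := by
      rw [hγ, ← map_inv, autOf_apply]; simp
    rw [MulAut.mul_apply, MulAut.mul_apply, hγ, autOf_apply, huv, ← hγ, e]
    group
  have htc : (n * y * n⁻¹) * c * (n * y * n⁻¹)⁻¹ = c * a := by
    obtain ⟨i, hi⟩ := CfsgLib.PGroups.Transvections.conj_move (γ := γ) hshift z
    have hne := (CfsgLib.PGroups.Transvections.center_moved hcomm hz2 huG hshift huz hmax
      ⟨_, rfl⟩ ht).2
    have hi1 : i % 2 = 1 := by
      rcases Nat.mod_two_eq_zero_or_one i with h | h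
      · refine absurd ?_ hne
        rw [hi, pow_eq_pow_mod i (show γ z ^ 2 = 1 by rw [← map_pow, hz2, map_one]), h, pow_zero,
          mul_one]
      · exact h
    rw [pow_eq_pow_mod i (show γ z ^ 2 = 1 by rw [← map_pow, hz2, map_one]), hi1, pow_one] at hi
    have h := congrArg Subtype.val hi
    rw [hy', Subgroup.coe_mul, hγz, hz] at h
    exact h
  refine ⟨y * (n * y * n⁻¹), ?_, fun β hβ hβa v hv => ?_⟩
  · rw [show y * (n * y * n⁻¹) * c * (y * (n * y * n⁻¹))⁻¹ =
      y * ((n * y * n⁻¹) * c * (n * y * n⁻¹)⁻¹) * y⁻¹ by group, htc,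
      show y * (c * a) * y⁻¹ = (y * c * y⁻¹) * (y * a * y⁻¹) by group, hua,
      mul_inv_eq_iff_eq_mul.2 (K.cen y hy).eq, ← mul_assoc, (K.cen a ha).eq.symm, mul_assoc, K.c_sq,
      mul_one]
  · have hvA : v ∈ (abMax S a) := sylCenter_le_abMax ha hv
    obtain ⟨r, i, j, hur, htr, hvr⟩ := CfsgLib.PGroups.Transvections.decomposition hcomm hz2 huG hshift
      huz hmax ⟨_, rfl⟩ ht ⟨v, hvA⟩
    have huv0 : u ⟨v, hvA⟩ = ⟨v, hvA⟩ :=
      Subtype.ext (by rw [huv]; exact mul_inv_eq_iff_eq_mul.2 ((mem_sylCenter.1 hv).2 y hy).eq)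
    have hj : γ z ^ j = 1 := by
      have hw2 : γ z ^ 2 = 1 := by rw [← map_pow, hz2, map_one]
      rw [pow_eq_pow_mod j hw2]
      rcases Nat.mod_two_eq_zero_or_one j with h | h
      · rw [h, pow_zero]
      exfalso
      rw [hvr, map_mul, map_mul, hur, map_pow, huz, map_pow, pow_eq_pow_mod j hw2, h,
        pow_eq_pow_mod j (show u (γ z) ^ 2 = 1 by rw [← map_pow, hw2, map_one]), h, pow_one,
        pow_one, mul_right_inj] at huv0
      have h2 := congrArg Subtype.val huv0
      rw [huv, hγz] at h2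
      exact hya (mul_inv_eq_iff_eq_mul.1 h2)
    rw [hj, mul_one] at hvr
    have hv' : v = (r : G) * c ^ i := by
      have := congrArg Subtype.val hvr
      rwa [Subgroup.coe_mul, SubmonoidClass.coe_pow, hz] at this
    have hci : c ^ i ∈ sylCenter S := pow_mem K.c_mem_center i
    have hrZ : (r : G) ∈ sylCenter S := by
      have h := mul_mem hv (inv_mem hci)
      rwa [hv', mul_inv_cancel_right] at h
    have e : β * v * β⁻¹ * v⁻¹ = β * r * β⁻¹ * (r : G)⁻¹ := by
      have hb : β * c ^ i * β⁻¹ = c ^ i := by rw [← conj_pow, K.normalizer_fix hβ]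
      rw [hv', show β * ((r : G) * c ^ i) * β⁻¹ * ((r : G) * c ^ i)⁻¹ =
        (β * r * β⁻¹) * (β * c ^ i * β⁻¹) * (c ^ i)⁻¹ * (r : G)⁻¹ by group, hb, mul_inv_cancel_right]
    have hβA : β ∈ normalizer ((abMax S a) : Set G) := by
      have hb : β * a * β⁻¹ = a := mul_inv_eq_iff_eq_mul.2 hβa.eq
      rw [mem_normalizer_iff]
      intro w
      rw [mem_abMax, mem_abMax]
      refine and_congr (mem_normalizer_iff.1 hβ w) ⟨fun h => ?_, fun h => ?_⟩
      · have := h.map (MulAut.conj β).toMonoidHom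
        simpa [hb] using this
      · refine (MulAut.conj β).injective ?_
        rw [map_mul, map_mul, MulAut.conj_apply, MulAut.conj_apply, hb]
        exact h.eq
    have hβrZ : β * r * β⁻¹ ∈ sylCenter S :=
      K.fix_preserves ha ha0 hy hya hβA (K.normalizer_fix hβ) hrZ
    rw [e]
    refine Commute.mul_left ?_ ?_
    · exact ((mem_sylCenter.1 hβrZ).2 y hy).mul_right ((mem_sylCenter.1 hrZ).2 y hy).inv_right
    · -- the conjugated transvection
      have hr' : Commute (n * y * n⁻¹) (r : G) := by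
        have h := congrArg Subtype.val htr
        rw [hy'] at h
        exact mul_inv_eq_iff_eq_mul.1 h
      refine Commute.mul_right ?_ hr'.inv_right
      have hnr : n⁻¹ * r * n ∈ sylCenter S := by
        have hA' : n⁻¹ * r * n ∈ (abMax S a) := by
          have := (mem_normalizer_iff.1 (inv_mem hn) r).1 r.2
          rwa [inv_inv] at this
        refine mem_sylCenter.2 ⟨(mem_abMax.1 hA').1, fun s hs => ?_⟩
        rcases K.outside ha ha0 hy hya hs with h | h
        · exact K.abMax_comm ha ha0 h hA'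
        · have h1 := hr'.map (MulAut.conj n⁻¹).toMonoidHom
          simp only [MulEquiv.coe_toMonoidHom, MulAut.conj_apply, inv_inv] at h1
          rw [show n⁻¹ * (n * y * n⁻¹) * n = y by group] at h1
          have := h1.mul_left (K.abMax_comm ha ha0 h hA')
          rwa [mul_inv_cancel_left] at this
      have hδc : n⁻¹ * β * n * c * (n⁻¹ * β * n)⁻¹ = c := by
        rw [show n⁻¹ * β * n * c * (n⁻¹ * β * n)⁻¹ = n⁻¹ * (β * (n * c * n⁻¹) * β⁻¹) * n by group, hnc,
          mul_inv_eq_iff_eq_mul.2 hβa.eq, hna]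
      have hδr := K.fix_preserves ha ha0 hy hya (mul_mem (mul_mem (inv_mem hn) hβA) hn) hδc hnr
      rw [show n⁻¹ * β * n * (n⁻¹ * ↑r * n) * (n⁻¹ * β * n)⁻¹ = n⁻¹ * (β * r * β⁻¹) * n by group] at hδr
      have h2 := ((mem_sylCenter.1 hδr).2 y hy).map (MulAut.conj n).toMonoidHom
      simp only [MulEquiv.coe_toMonoidHom, MulAut.conj_apply] at h2
      rwa [show n * (n⁻¹ * (β * r * β⁻¹) * n) * n⁻¹ = β * r * β⁻¹ by group] at h2

end NaCtx

end CfsgLib.TwoGroups.CentreIndexFour
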