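import Mathlib.GroupTheory.QuotientGroup.Basic
import Mathlib.GroupTheory.Index
import Mathlib.GroupTheory.OrderOfElement
import Mathlib.Tactic.Group
import Mathlib.Algebra.Ring.Parity

/-!
Owner: helper2.  An element of odd order acting on a four-group section (for S4594).
-/

set_option autoImplicit false
set_option linter.unusedSectionVars false
set_option linter.style.haveILetI false

namespace CfsgLib.TwoGroups.CentreIndexFour

open Subgroup

/-- An odd automorphism of a four-group fixing a nonidentity element is trivial, and otherwise it is a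
three-cycle. -/
theorem four_aut {Q : Type*} [Group Q] [Finite Q] (hc : Nat.card Q = 4) (hx2 : ∀ q : Q, q * q = 1)
    (α : MulAut Q) (hodd : Odd (orderOf α)) {x : Q} (hx : x ≠ 1) :
    (α x = x → α = 1) ∧ (α ≠ 1 → α (α x) = x * α x) := by
  classical
  have all : ∀ a b : Q, a ≠ 1 → b ≠ 1 → a ≠ b → ∀ q, q = 1 ∨ q = a ∨ q = b ∨ q = a * b := by
    intro a b ha hb hab q
    by_contra hq
    push Not at hq
    obtain ⟨q1, q2, q3, q4⟩ := hq
    have hab1 : a * b ≠ 1 := fun h => hab (by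
      rw [eq_inv_of_mul_eq_one_left h, inv_eq_of_mul_eq_one_right (hx2 b)])
    have haba : a * b ≠ a := fun h => hb (mul_eq_left.1 h)
    have habb : a * b ≠ b := fun h => ha (mul_eq_right.1 h)
    haveI := Fintype.ofFinite Q
    have h5 : ({1, a, b, a * b, q} : Finset Q).card = 5 := by
      simp [Finset.card_insert_of_notMem, ha.symm, hb.symm, hab, hab1.symm, haba.symm, habb.symm,
        q1.symm, q2.symm, q3.symm, q4.symm]
    have := Finset.card_le_univ ({1, a, b, a * b, q} : Finset Q)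
    rw [h5, ← Nat.card_eq_fintype_card, hc] at this
    omega
  have sq : α * α = 1 → α = 1 := fun h => by
    have h2 : orderOf α ∣ 2 := orderOf_dvd_of_pow_eq_one (by rw [pow_two, h])
    rcases (Nat.dvd_prime Nat.prime_two).1 h2 with h' | h'
    · exact orderOf_eq_one_iff.1 h'
    · rw [h'] at hodd; exact absurd hodd (by decide)
  have fix : ∀ a : Q, a ≠ 1 → α a = a → α = 1 := by
    intro a ha hfa
    refine sq (MulEquiv.ext fun q => ?_)
    show α (α q) = q
    by_cases hq : α q = q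
    · rw [hq, hq]
    have hq1 : q ≠ 1 := fun h => hq (by rw [h, map_one])
    have hqa : a ≠ q := fun h => hq (h ▸ hfa)
    rcases all a q ha hq1 hqa (α q) with h | h | h | h
    · exact absurd (α.injective (h.trans (map_one α).symm)) hq1
    · exact absurd (α.injective (h.trans hfa.symm)) hqa.symm
    · exact absurd h hq
    · rw [h, map_mul, hfa, h, ← mul_assoc, hx2, one_mul]
  refine ⟨fix x hx, fun hne => ?_⟩
  have h1 : α x ≠ x := fun h => hne (fix x hx h)
  have h1' : α x ≠ 1 := fun h => hx (α.injective (h.trans (map_one α).symm))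
  rcases all x (α x) hx h1' h1.symm (α (α x)) with h | h | h | h
  · exact absurd (α.injective (h.trans (map_one α).symm)) h1'
  · refine absurd (sq (MulEquiv.ext fun q => ?_)) hne
    show α (α q) = q
    rcases all x (α x) hx h1' h1.symm q with hq | hq | hq | hq
    · rw [hq, map_one, map_one]
    · rw [hq, h]
    · rw [hq, h]
    · rw [hq, map_mul, map_mul, h]
  · exact absurd (α.injective h) h1
  · exact h

variable {G : Type*} [Group G] [Finite G]

/-- The same, for a section `S / S₀` of order four. -/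
theorem four_action {S S₀ : Subgroup G} (h0 : S₀ ≤ S) (hn : S ≤ normalizer (S₀ : Set G))
    (hidx : S₀.relIndex S = 4) (hsq : ∀ s ∈ S, s * s ∈ S₀) {β : G}
    (hβ : β ∈ normalizer (S : Set G)) (hβ0 : β ∈ normalizer (S₀ : Set G)) (hodd : Odd (orderOf β))
    {x : G} (hx : x ∈ S) (hx0 : x ∉ S₀) :
    ((β * x * β⁻¹) * x⁻¹ ∈ S₀ → ∀ s ∈ S, (β * s * β⁻¹) * s⁻¹ ∈ S₀) ∧
      (¬ (β * x * β⁻¹) * x⁻¹ ∈ S₀ →
        (β * (β * x * β⁻¹) * β⁻¹) * (x * (β * x * β⁻¹))⁻¹ ∈ S₀) := by
  haveI : (S₀.subgroupOf S).Normal := normal_subgroupOf_of_le_normalizer hn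
  set φ : (S : Subgroup G) →* S ⧸ S₀.subgroupOf S := QuotientGroup.mk' _ with hφ
  have hφ0 : ∀ a b : S, φ a = φ b ↔ (a : G) * (b : G)⁻¹ ∈ S₀ := fun a b => by
    rw [← mul_inv_eq_one, ← map_inv, ← map_mul, hφ, QuotientGroup.mk'_apply, QuotientGroup.eq_one_iff]
    rfl
  set γ : MulAut S := S.normalizerMonoidHom ⟨β, hβ⟩ with hγ
  have hγa : ∀ s : S, ((γ s : S) : G) = β * s * β⁻¹ := fun s => rfl
  have hmap : (S₀.subgroupOf S).map (γ : S →* S) = S₀.subgroupOf S := by
    ext s
    constructor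
    · rintro ⟨t, ht, rfl⟩
      exact (mem_normalizer_iff.1 hβ0 t).1 ht
    · intro hs
      refine ⟨γ.symm s, ?_, γ.apply_symm_apply s⟩
      rw [SetLike.mem_coe, mem_subgroupOf]
      refine (mem_normalizer_iff.1 hβ0 _).2 ?_
      rw [← hγa, γ.apply_symm_apply]
      exact hs
  set α : MulAut (S ⧸ S₀.subgroupOf S) := QuotientGroup.congr _ _ γ hmap with hα
  have hαφ : ∀ s : S, α (φ s) = φ (γ s) := fun s => rfl
  have hpow : ∀ (n : ℕ) (s : S), (α ^ n) (φ s) = φ ((γ ^ n) s) := by
    intro n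
    induction n with
    | zero => intro s; rfl
    | succ n ih => intro s; rw [pow_succ, pow_succ, MulAut.mul_apply, MulAut.mul_apply, hαφ, ih]
  have hαodd : Odd (orderOf α) := by
    refine hodd.of_dvd_nat (orderOf_dvd_of_pow_eq_one (MulEquiv.ext fun q => ?_))
    obtain ⟨s, rfl⟩ := QuotientGroup.mk'_surjective (S₀.subgroupOf S) q
    rw [← hφ, hpow, hγ, ← map_pow, show (⟨β, hβ⟩ : normalizer (S : Set G)) ^ orderOf β = 1 from
      Subtype.ext (by simp [pow_orderOf_eq_one]), map_one]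
    rfl
  have hcard : Nat.card (S ⧸ S₀.subgroupOf S) = 4 := by
    rw [← index_eq_card]; exact hidx
  have hsq' : ∀ q : S ⧸ S₀.subgroupOf S, q * q = 1 := fun q => by
    obtain ⟨s, rfl⟩ := QuotientGroup.mk'_surjective (S₀.subgroupOf S) q
    rw [← map_mul, QuotientGroup.mk'_apply, QuotientGroup.eq_one_iff]
    exact hsq s s.2
  have hne : φ ⟨x, hx⟩ ≠ 1 := fun h => hx0 (by
    have := (hφ0 ⟨x, hx⟩ 1).1 (h.trans (map_one φ).symm)
    simpa using this)
  obtain ⟨h1, h2⟩ := four_aut hcard hsq' α hαodd hne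
  refine ⟨fun h s hs => ?_, fun h => ?_⟩
  · have e := h1 ((hαφ _).trans ((hφ0 _ _).2 h))
    exact (hφ0 (γ ⟨s, hs⟩) ⟨s, hs⟩).1 (by rw [← hαφ, e]; rfl)
  · have e := h2 fun e => h ((hφ0 (γ ⟨x, hx⟩) ⟨x, hx⟩).1 (by rw [← hαφ, e]; rfl))
    rw [hαφ, hαφ, ← map_mul] at e
    exact (hφ0 _ _).1 e

end CfsgLib.TwoGroups.CentreIndexFour
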