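import Cfsg.Agent.Lib.TwoGroups.CentreIndexFour.Automiser
import Cfsg.Agent.Lib.TwoGroups.CentreIndexFour.Four
import Cfsg.Agent.S4216

/-!
Owner: helper2.  Two of the three cosets of the centre contain conjugates of the commutator (for S4594).
-/

set_option autoImplicit false
set_option linter.unusedSectionVars false
set_option linter.style.haveILetI false

namespace CfsgLib.TwoGroups.CentreIndexFour

open Subgroup
open scoped commutatorElement

namespace NaCtx

variable {G : Type*} [Group G] [Finite G] {S : Sylow 2 G} {c : G} (K : NaCtx S c)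

include K

theorem c_not_sq {x g : G} (hx : x ∈ (S : Subgroup G)) (hxg : x = g * c * g⁻¹) (hx0 : x ∉ sylCenter S)
    {ζ : G} (hζ : ζ ∈ sylCenter S) : ζ * ζ ≠ c := fun h => by
  obtain ⟨y, hy, hya⟩ := K.exists_partner hx hx0
  obtain ⟨n, hn, hnz⟩ := K.exists_conj_center hx hx0 (g := g) (by
    rw [hxg, show g⁻¹ * (g * c * g⁻¹) * g = c by group]; exact K.c_mem_center)
  have hnx : n⁻¹ * x * n = c := K.eq_of_conj_center hnz (g := n⁻¹ * g) (by rw [hxg]; group)
  have hA : n * ζ * n⁻¹ ∈ abMax S x := (mem_normalizer_iff.1 hn ζ).1 (sylCenter_le_abMax hx hζ)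
  refine hx0 ?_
  have h2 : n * ζ * n⁻¹ * (n * ζ * n⁻¹) = x := by
    rw [show n * ζ * n⁻¹ * (n * ζ * n⁻¹) = n * (ζ * ζ) * n⁻¹ by group, h, ← hnx]; group
  rw [← h2]
  exact mem_sylCenter.2 ⟨mul_mem (mem_abMax.1 hA).1 (mem_abMax.1 hA).1,
    fun s hs => K.sq _ (mem_abMax.1 hA).1 s hs⟩

/-- No involution in the third coset. -/
theorem third {a b ga gb : G} (ha : a ∈ (S : Subgroup G)) (haX : a = ga * c * ga⁻¹)
    (hb : b ∈ (S : Subgroup G)) (hbX : b = gb * c * gb⁻¹) (hab : ¬ Commute a b) {v : G}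
    (hv : v ∈ (S : Subgroup G)) (hv2 : v * v = 1) (hv0 : v ∉ sylCenter S) :
    v ∈ abMax S a ∨ v ∈ abMax S b := by
  have ha0 : a ∉ sylCenter S := fun h => hab ((mem_sylCenter.1 h).2 b hb).symm
  obtain ⟨z, hz, hzc, h⟩ := K.span a ha b hb hab v hv
  rcases h with rfl | rfl | rfl | rfl
  · exact absurd (mem_sylCenter.2 ⟨hz, hzc⟩) hv0
  · exact Or.inl (mem_abMax.2 ⟨hv, (hzc a ha).symm.mul_left (Commute.refl a)⟩)
  · exact Or.inr (mem_abMax.2 ⟨hv, (hzc b hb).symm.mul_left (Commute.refl b)⟩)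
  · exfalso
    refine K.c_not_sq ha haX ha0 (mem_sylCenter.2 ⟨hz, hzc⟩ : z ∈ sylCenter S) ?_
    have e1 : a * b * (a * b) = c := by
      rw [show a * b * (a * b) = (a * b * a⁻¹) * (a * a) * b by group,
        show a * a = 1 by rw [haX, K.conj_c_sq], K.comm_eq ha hb hab, mul_one,
        mul_assoc b c b, (K.cen b hb).eq.symm, ← mul_assoc, show b * b = 1 by rw [hbX, K.conj_c_sq],
        one_mul]
    rw [show z * a * b * (z * a * b) = z * z * (a * b * (a * b)) by
      rw [show z * a * b * (z * a * b) = z * ((a * b) * z) * (a * b) by group,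
        (hzc (a * b) (mul_mem ha hb)).eq]
      group, e1] at hv2
    rw [mul_eq_one_iff_eq_inv.1 hv2, inv_eq_of_mul_eq_one_right K.c_sq]

/-- The conjugates of `c` in the coset of `x`. -/
theorem in_coset {x g : G} (hx : x ∈ (S : Subgroup G)) (hxg : x = g * c * g⁻¹) (hx0 : x ∉ sylCenter S)
    {v h : G} (hvA : v ∈ abMax S x) (hvh : v = h * c * h⁻¹) : v = c ∨ v = x ∨ v = c * x := by
  by_cases hv0 : v ∈ sylCenter S
  · exact Or.inl (K.eq_of_conj_center hv0 hvh.symm)
  have hvS := (mem_abMax.1 hvA).1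
  obtain ⟨y, hy, hya⟩ := K.exists_partner hx hx0
  obtain ⟨n, hn, hnz⟩ := K.exists_conj_center hx hx0 (g := g) (by
    rw [hxg, show g⁻¹ * (g * c * g⁻¹) * g = c by group]; exact K.c_mem_center)
  have hnx : n * c * n⁻¹ = x := by
    rw [← K.eq_of_conj_center hnz (g := n⁻¹ * g) (by rw [hxg]; group)]; group
  obtain ⟨n', hn', hnz'⟩ := K.exists_conj_center hvS hv0 (g := h) (by
    rw [hvh, show h⁻¹ * (h * c * h⁻¹) * h = c by group]; exact K.c_mem_center)
  have hnv : n' * c * n'⁻¹ = v := by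
    rw [← K.eq_of_conj_center hnz' (g := n'⁻¹ * h) (by rw [hvh]; group)]; group
  rw [K.abMax_congr hx hx0 hvA hv0] at hn'
  rcases K.conj_cases hx hx0 hy hya hn (by rw [hnx]; exact fun e => hx0 (e ▸ K.c_mem_center)) hn' with
    e | e | e <;> rw [hnv] at e
  · exact Or.inl e
  · exact Or.inr (Or.inl (e.trans hnx))
  · exact Or.inr (Or.inr (by rw [e, hnx]))

theorem relIndex_center (hidx : (Subgroup.center (S : Subgroup G)).index = 4) :
    (sylCenter S).relIndex (S : Subgroup G) = 4 := by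
  have e : (sylCenter S).subgroupOf (S : Subgroup G) = Subgroup.center (S : Subgroup G) := by
    ext s
    rw [mem_subgroupOf, mem_sylCenter, mem_center_iff]
    exact ⟨fun h t => Subtype.ext (h.2 t t.2).eq,
      fun h => ⟨s.2, fun t ht => congrArg Subtype.val (h ⟨t, ht⟩)⟩⟩
  rw [relIndex, e, hidx]

theorem conj_center {β v : G} (hβ : β ∈ normalizer ((S : Subgroup G) : Set G)) (hv : v ∈ sylCenter S) :
    β * v * β⁻¹ ∈ sylCenter S := by
  refine mem_sylCenter.2 ⟨(mem_normalizer_iff.1 hβ v).1 (mem_sylCenter.1 hv).1, fun s hs => ?_⟩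
  have hs' : β⁻¹ * s * β ∈ (S : Subgroup G) := by
    have := (mem_normalizer_iff.1 (inv_mem hβ) s).1 hs
    rwa [inv_inv] at this
  have h := ((mem_sylCenter.1 hv).2 _ hs').map (MulAut.conj β).toMonoidHom
  simpa [mul_assoc] using h

theorem normalizer_le_center :
    normalizer ((S : Subgroup G) : Set G) ≤ normalizer (sylCenter S : Set G) :=
  le_normalizer_iff.2 fun _ hβ _ hv => K.conj_center hβ hv

/-- The complement of the normaliser acts trivially on the quotient by the centre. -/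
theorem trivial_on_quotient (hidx : (Subgroup.center (S : Subgroup G)).index = 4) {x g : G}
    (hx : x ∈ (S : Subgroup G)) (hxg : x = g * c * g⁻¹) (hx0 : x ∉ sylCenter S) {β : G}
    (hβ : β ∈ normalizer ((S : Subgroup G) : Set G)) (hodd : Odd (orderOf β)) :
    ∀ s ∈ (S : Subgroup G), β * s * β⁻¹ * s⁻¹ ∈ sylCenter S := by
  have hZn : (S : Subgroup G) ≤ normalizer (sylCenter S : Set G) :=
    le_normalizer.trans K.normalizer_le_center
  obtain ⟨h1, h2⟩ := four_action (S₀ := sylCenter S) inf_le_left hZn (K.relIndex_center hidx)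
    (fun s hs => mem_sylCenter.2 ⟨mul_mem hs hs, K.sq s hs⟩) hβ (K.normalizer_le_center hβ) hodd hx hx0
  by_contra hne
  have hmove : β * x * β⁻¹ * x⁻¹ ∉ sylCenter S := fun h => hne (h1 h)
  have h3 := h2 hmove
  set b := β * x * β⁻¹ with hb
  have hbS : b ∈ (S : Subgroup G) := (mem_normalizer_iff.1 hβ x).1 hx
  have hbX : b = (β * g) * c * (β * g)⁻¹ := by rw [hb, hxg]; group
  have hb0 : b ∉ sylCenter S := fun h => hx0 (by
    have := K.conj_center (inv_mem hβ) h
    rwa [hb, inv_inv, show β⁻¹ * (β * x * β⁻¹) * β = x by group] at this)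
  have hxb : ¬ Commute x b := fun h => by
    obtain ⟨z, hz, h4 | h4⟩ := K.abMax_eq hx hx0 (mem_abMax.2 ⟨hbS, h.symm⟩ : b ∈ abMax S x)
    · exact hb0 (h4 ▸ hz)
    · refine hmove ?_
      rw [h4, mul_inv_cancel_right]
      exact hz
  set v := β * b * β⁻¹ with hv
  have hvS : v ∈ (S : Subgroup G) := (mem_normalizer_iff.1 hβ b).1 hbS
  obtain ⟨z, hz, hz'⟩ : ∃ z ∈ sylCenter S, v = z * (x * b) := ⟨_, h3, by group⟩
  have hv0 : v ∉ sylCenter S := fun h => hxb (by
    have h5 : x * b ∈ sylCenter S := by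
      rw [show x * b = z⁻¹ * v by rw [hz']; group]; exact mul_mem (inv_mem hz) h
    have h6 : Commute x (x * b) := (mem_sylCenter.1 h5).2 x hx
    have := (Commute.refl x).inv_right.mul_right h6
    rwa [inv_mul_cancel_left] at this)
  have hxb' : ¬ Commute (x * b) x ∧ ¬ Commute (x * b) b := ⟨fun h => hxb (by
    have := (Commute.refl x).inv_left.mul_left h
    rw [inv_mul_cancel_left] at this; exact this.symm), fun h => hxb (by
    have := h.mul_left (Commute.refl b).inv_left
    rwa [mul_inv_cancel_right] at this)⟩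
  rcases K.third hx hxg hbS hbX hxb hvS (by rw [hv, hbX,
    show β * ((β * g) * c * (β * g)⁻¹) * β⁻¹ = (β * β * g) * c * (β * β * g)⁻¹ by group, K.conj_c_sq])
    hv0 with h | h
  · refine hxb'.1 ?_
    have := ((mem_sylCenter.1 hz).2 x hx).symm.inv_left.mul_left (hz' ▸ (mem_abMax.1 h).2)
    rwa [inv_mul_cancel_left] at this
  · refine hxb'.2 ?_
    have := ((mem_sylCenter.1 hz).2 b hbS).symm.inv_left.mul_left (hz' ▸ (mem_abMax.1 h).2)
    rwa [inv_mul_cancel_left] at this

/-- Grün: the Sylow subgroup is generated by the part from the normaliser and conjugates of `c`. -/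
theorem le_gruen (hperf : commutator G = ⊤) {B T D : Subgroup G}
    (hdec : ∀ n ∈ normalizer ((S : Subgroup G) : Set G), ∃ s ∈ (S : Subgroup G), ∃ β ∈ B, n = s * β)
    (hBS : B ≤ normalizer ((S : Subgroup G) : Set G)) (hodd : Odd (Nat.card B))
    (hT : T ≤ (S : Subgroup G)) (hBT : B ≤ normalizer (T : Set G))
    (hSB : ∀ s ∈ (S : Subgroup G), ∀ β ∈ B, β * s * β⁻¹ * s⁻¹ ∈ T)
    (hTc : c ∈ T) (hTcen : T ≤ sylCenter S)
    (hX : ∀ v g : G, v ∈ (S : Subgroup G) → v = g * c * g⁻¹ → v ∈ D) :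
    (S : Subgroup G) ≤ T ⊔ D := by
  haveI : Fact (Nat.Prime 2) := ⟨Nat.prime_two⟩
  set N := normalizer ((S : Subgroup G) : Set G) with hN
  have h := Cfsg.Agent.S4216.result S
  rw [hperf, inf_top_eq] at h
  conv_lhs => rw [h]
  refine sup_le (le_trans ?_ le_sup_left) (iSup_le fun z => le_trans ?_ le_sup_right)
  · have hNT : N ≤ normalizer (T : Set G) := le_normalizer_iff.2 fun n hn t ht => by
      obtain ⟨s, hs, β, hβ, rfl⟩ := hdec n hn
      have h1 := (mem_normalizer_iff.1 (hBT hβ) t).1 ht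
      rw [show s * β * t * (s * β)⁻¹ = s * (β * t * β⁻¹) * s⁻¹ by group,
        ((mem_sylCenter.1 (hTcen h1)).2 s hs).eq, mul_inv_cancel_right]
      exact h1
    haveI : (T.subgroupOf N).Normal := normal_subgroupOf_of_le_normalizer hNT
    set φ := QuotientGroup.mk' (T.subgroupOf N)
    have cenS : ∀ s : N, (s : G) ∈ (S : Subgroup G) → ∀ n : N, Commute (φ s) (φ n) := by
      intro s hs n
      show φ s * φ n = φ n * φ s
      rw [← map_mul, ← map_mul, QuotientGroup.mk'_eq_mk']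
      refine ⟨(s * n)⁻¹ * (n * s), ?_, by group⟩
      rw [mem_subgroupOf]
      obtain ⟨t, ht, β, hβ, he⟩ := hdec n n.2
      simp only [Subgroup.coe_mul, Subgroup.coe_inv, he]
      have h2 : t * s * t⁻¹ * (s : G)⁻¹ ∈ T := by
        rcases K.comm t ht s hs with h3 | h3
        · rw [h3, mul_inv_cancel]; exact T.one_mem
        · rw [h3, (K.cen s hs).eq, mul_inv_cancel_right]; exact hTc
      have h4 := hSB s hs β hβ
      have h5 : (s : G)⁻¹ * t * s * t⁻¹ ∈ T := by
        rcases K.comm t ht s hs with h3 | h3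
        · rw [show (s : G)⁻¹ * t * s * t⁻¹ = (s : G)⁻¹ * (t * s * t⁻¹) by group, h3, inv_mul_cancel]
          exact T.one_mem
        · rw [show (s : G)⁻¹ * t * s * t⁻¹ = (s : G)⁻¹ * (t * s * t⁻¹) by group, h3, inv_mul_cancel_left]
          exact hTc
      have h6 : t⁻¹ * ((s : G)⁻¹ * t * s * t⁻¹) * t ∈ T := by
        rw [((mem_sylCenter.1 (hTcen h5)).2 t⁻¹ (inv_mem ht)).eq, inv_mul_cancel_right]
        exact h5
      have hcs : (s : G) * (β * s * β⁻¹ * (s : G)⁻¹) = (β * s * β⁻¹ * (s : G)⁻¹) * s :=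
        ((mem_sylCenter.1 (hTcen h4)).2 s hs).eq
      have e2 : ((s : G) * (t * β))⁻¹ * (t * β * s) =
          β⁻¹ * ((t⁻¹ * ((s : G)⁻¹ * t * s * t⁻¹) * t) * ((s : G)⁻¹ * (β * s * β⁻¹))) * β := by group
      rw [e2]
      refine (mem_normalizer_iff.1 (hBT (inv_mem hβ)) _).1 (mul_mem h6 ?_) |>
        fun hh => by rwa [inv_inv] at hh
      have : (s : G)⁻¹ * (β * s * β⁻¹) = β * s * β⁻¹ * (s : G)⁻¹ := by
        rw [inv_mul_eq_iff_eq_mul, hcs, inv_mul_cancel_right]
      rw [this]; exact h4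
    -- the derived group lies in `T` times `B`
    have hle : ⁅N, N⁆ ≤ B ⊔ T := by
      rw [commutator_le]
      intro n hn m hm
      obtain ⟨s, hs, β, hβ, rfl⟩ := hdec n hn
      obtain ⟨t, ht, γ, hγ, rfl⟩ := hdec m hm
      have hsN : s ∈ N := le_normalizer hs
      have htN : t ∈ N := le_normalizer ht
      set s' : N := ⟨s, hsN⟩
      set t' : N := ⟨t, htN⟩
      set β' : N := ⟨β, hBS hβ⟩
      set γ' : N := ⟨γ, hBS hγ⟩
      have h1 : φ ⁅s' * β', t' * γ'⁆ = φ ⁅β', γ'⁆ := by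
        rw [map_commutatorElement, map_commutatorElement, map_mul, map_mul]
        simp only [commutatorElement_def]
        have a1 := cenS s' hs β'
        have a2 := cenS s' hs t'
        have a3 := cenS s' hs γ'
        have a4 := cenS t' ht β'
        have a5 := cenS t' ht γ'
        set A := φ s'
        set P := φ β'
        set C' := φ t'
        set Q := φ γ'
        calc A * P * (C' * Q) * (A * P)⁻¹ * (C' * Q)⁻¹
            = A * (P * C') * Q * P⁻¹ * A⁻¹ * Q⁻¹ * C'⁻¹ := by group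
          _ = A * (C' * P) * Q * P⁻¹ * A⁻¹ * Q⁻¹ * C'⁻¹ := by rw [a4.symm.eq]
          _ = A * C' * (P * Q * P⁻¹) * (A⁻¹ * Q⁻¹) * C'⁻¹ := by group
          _ = A * C' * (P * Q * P⁻¹) * (Q⁻¹ * A⁻¹) * C'⁻¹ := by rw [(a3.inv_left.inv_right).eq]
          _ = (A * C') * (P * Q * P⁻¹ * Q⁻¹) * (C' * A)⁻¹ := by group
          _ = P * Q * P⁻¹ * Q⁻¹ := by
            rw [← a2.eq, mul_inv_eq_iff_eq_mul]
            have hc1 : Commute (A * C') P := a1.mul_left a4
            have hc2 : Commute (A * C') Q := a3.mul_left a5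
            exact (((hc1.mul_right hc2).mul_right hc1.inv_right).mul_right hc2.inv_right).eq
      rw [QuotientGroup.mk'_eq_mk'] at h1
      obtain ⟨τ, hτ, he⟩ := h1
      have he' := congrArg Subtype.val he
      simp only [Subgroup.coe_mul] at he'
      rw [mem_subgroupOf] at hτ
      have hbg : ((⁅β', γ'⁆ : N) : G) ∈ B := by
        simp only [commutatorElement_def, Subgroup.coe_mul, Subgroup.coe_inv]
        exact mul_mem (mul_mem (mul_mem hβ hγ) (inv_mem hβ)) (inv_mem hγ)
      have hval : ((⁅s' * β', t' * γ'⁆ : N) : G) = ⁅s * β, t * γ⁆ := by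
        simp only [commutatorElement_def, Subgroup.coe_mul, Subgroup.coe_inv]
        rfl
      rw [← hval, eq_mul_inv_of_mul_eq he']
      exact mul_mem (mem_sup_left hbg) (mem_sup_right (inv_mem hτ))
    intro v hv
    obtain ⟨β, hβ, τ, hτ, rfl⟩ := (CfsgLib.Core.mem_sup_iff_mul hBT).1 (hle hv.2)
    have hβS : β ∈ (S : Subgroup G) := by
      have := mul_mem hv.1 ((S : Subgroup G).inv_mem (hT hτ)); rwa [mul_inv_cancel_right] at this
    obtain ⟨k, hk⟩ := (IsPGroup.iff_orderOf.1 S.2) ⟨β, hβS⟩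
    rw [Subgroup.orderOf_mk] at hk
    have h1 : orderOf β = 1 := by
      have ho := odd_orderOf hodd hβ
      rw [hk] at ho ⊢
      rcases Nat.eq_zero_or_pos k with rfl | hk0
      · rfl
      · exact absurd ho (Nat.not_odd_iff_even.2 ((Nat.even_pow).2 ⟨even_two, hk0.ne'⟩))
    rw [orderOf_eq_one_iff] at h1
    subst h1
    rw [one_mul]; exact hτ
  · rintro v ⟨hvS, d, hd, rfl⟩
    have hd' : d ∈ zpowers c := by
      refine (commutator_le.2 ?_ : ⁅(S : Subgroup G), (S : Subgroup G)⁆ ≤ zpowers c) hd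
      intro p hp q hq
      rw [commutatorElement_def]
      rcases K.comm p hp q hq with h3 | h3 <;> rw [h3]
      · rw [mul_inv_cancel]; exact one_mem _
      · rw [(K.cen q hq).eq, mul_inv_cancel_right]; exact mem_zpowers c
    obtain ⟨n, rfl⟩ := mem_powers_iff_mem_zpowers.2 hd'
    show (MulAut.conj z) (c ^ n) ∈ D
    have hc2 : c ^ 2 = 1 := by rw [pow_two]; exact K.c_sq
    rcases Nat.mod_two_eq_zero_or_one n with hn | hn
    · rw [pow_eq_pow_mod n hc2, hn, pow_zero, map_one]; exact D.one_mem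
    · rw [pow_eq_pow_mod n hc2, hn, pow_one]
      refine hX _ z ?_ (MulAut.conj_apply _ _)
      have : (MulAut.conj z) (c ^ n) ∈ (S : Subgroup G) := hvS
      rwa [pow_eq_pow_mod n hc2, hn, pow_one] at this

end NaCtx

end CfsgLib.TwoGroups.CentreIndexFour
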