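import Cfsg.Agent.Lib.Perm.SuborbitThree.SylowTypes
import Cfsg.Agent.Lib.Perm.Alt2520.Eight
import Cfsg.Agent.Lib.ZStar.Apps
import Cfsg.Agent.Lib.ZStar.QuatSylow
import Mathlib.GroupTheory.Transfer

/-!
# Quasisimple groups with a non-abelian Sylow two-subgroup of order eight

By transfer the `p`-part of the centre of a perfect group lies in the derived group of a Sylow
`p`-subgroup; with the theorem of Gorenstein and Walter this identifies the quasisimple groups
with a non-abelian Sylow two-subgroup of order eight.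
-/

set_option autoImplicit false
set_option linter.all false

namespace CfsgLib.TwoGroups.CentreIndexFour

open Subgroup
open scoped commutatorElement

universe u

/-- Transfer: the `p`-part of the centre of a perfect group lies in the derived group of a Sylow
`p`-subgroup. -/
theorem center_inf_sylow_le {G : Type u} [Group G] [Finite G] {p : ℕ} [Fact p.Prime]
    (hperf : commutator G = ⊤) (P : Sylow p G) :
    Subgroup.center G ⊓ (P : Subgroup G) ≤ ⁅(P : Subgroup G), (P : Subgroup G)⁆ := by
  rintro z ⟨hz, hzP⟩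
  set H : Subgroup G := (P : Subgroup G) with hH
  let ϕ : H →* Abelianization H := Abelianization.of
  have key : ∀ (k : ℕ) (g₀ : G), g₀⁻¹ * z ^ k * g₀ ∈ H → g₀⁻¹ * z ^ k * g₀ = z ^ k := by
    intro k g₀ _
    rw [mul_assoc, ← mem_center_iff.1 (pow_mem hz k) g₀, inv_mul_cancel_left]
  have h1 : MonoidHom.transfer ϕ z = 1 := by
    rw [← MonoidHom.mem_ker]
    exact Abelianization.commutator_subset_ker _ (hperf ▸ mem_top z)
  rw [MonoidHom.transfer_eq_pow ϕ z key] at h1
  have h2 : (⟨z ^ H.index, MonoidHom.transfer_eq_pow_aux z key⟩ : H) ∈ commutator H := by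
    rw [← Abelianization.ker_of, MonoidHom.mem_ker]; exact h1
  have h3 : z ^ H.index ∈ ⁅H, H⁆ := by
    rw [← map_subtype_commutator]; exact mem_map_of_mem H.subtype h2
  obtain ⟨k, hk⟩ := P.2 ⟨z, hzP⟩
  have hk' : z ^ p ^ k = 1 := congrArg Subtype.val hk
  have hc : Nat.Coprime H.index (p ^ k) :=
    (Nat.Coprime.symm ((Fact.out : p.Prime).coprime_iff_not_dvd.2 P.not_dvd_index)).pow_right k
  have h4 := Nat.gcd_eq_gcd_ab H.index (p ^ k)
  rw [hc.gcd_eq_one, Nat.cast_one] at h4
  rw [← _root_.zpow_one z, h4, _root_.zpow_add, _root_.zpow_mul z ((p ^ k : ℕ) : ℤ), _root_.zpow_natCast, hk',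
    _root_.one_zpow, mul_one, _root_.zpow_mul, _root_.zpow_natCast]
  exact zpow_mem h3 _

/-- A group of order four that is not cyclic is the dihedral group of that order. -/
theorem four_dihedral {T : Type*} [Group T] (h : Nat.card T = 4) (hc : ¬ IsCyclic T) :
    Nonempty (T ≃* DihedralGroup 2) := by
  haveI : Finite T := Nat.finite_of_card_ne_zero (by omega)
  haveI : IsKleinFour T :=
    { card_four := h
      exponent_two := by
        haveI : Fact (Nat.Prime 2) := ⟨Nat.prime_two⟩
        have h' : Nat.card T = 2 ^ 2 := by rw [h]; norm_num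
        exact (not_isCyclic_iff_exponent_eq_prime Nat.prime_two h').1 hc }
  exact IsKleinFour.nonempty_mulEquiv

/-- A central subgroup with cyclic quotient image forces commutativity. -/
theorem isMulCommutative_of_image_cyclic {G H : Type*} [Group G] [Group H] (f : G →* H) (P : Subgroup G)
    (hker : f.ker ≤ Subgroup.center G) (hc : IsCyclic (P.map f)) : IsMulCommutative P := by
  haveI := hc
  refine (f.subgroupMap P).isMulCommutative_of_isCyclic_of_ker_le_center fun x hx => ?_
  have hx' : f (x : G) = 1 := congrArg Subtype.val hx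
  rw [mem_center_iff]
  exact fun y => Subtype.ext (mem_center_iff.1 (hker (MonoidHom.mem_ker.2 hx')) y)

/-- The quasisimple groups with a non-abelian Sylow two-subgroup of order eight. -/
theorem identify {G : Type u} [Group G] [Finite G] (hq : Cfsg.IsQuasisimple G) (P : Sylow 2 G)
    (hna : ¬ IsMulCommutative (P : Subgroup G)) (h8 : Nat.card (P : Subgroup G) = 8) :
    Nonempty (G ≃* alternatingGroup (Fin 7)) ∨
      (Nat.card (Subgroup.center G) = 3 ∧ Nonempty (G ⧸ Subgroup.center G ≃* alternatingGroup (Fin 7))) ∨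
      ∃ (F : Type) (_ : Field F) (_ : Fintype F), Odd (Fintype.card F) ∧
        Nonempty (G ⧸ Subgroup.center G ≃* Matrix.ProjectiveSpecialLinearGroup (Fin 2) F) := by
  haveI : Fact (Nat.Prime 2) := ⟨Nat.prime_two⟩
  haveI := hq.2
  have hperf : commutator G = ⊤ := hq.1.commutator_eq_top
  set π := QuotientGroup.mk' (Subgroup.center G) with hπ
  have hsurj : Function.Surjective π := QuotientGroup.mk'_surjective _
  have hkerc : π.ker = Subgroup.center G := QuotientGroup.ker_mk' _
  have hnc : ¬ ∀ x y : G ⧸ Subgroup.center G, x * y = y * x := by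
    intro h
    have hle : commutator G ≤ Subgroup.center G := by
      rw [← hkerc, commutator_def, commutator_le]
      intro a _ b _
      rw [MonoidHom.mem_ker, map_commutatorElement, commutatorElement_eq_one_iff_mul_comm]
      exact h _ _
    rw [hperf, top_le_iff] at hle
    refine hna ⟨⟨fun a b => Subtype.ext ?_⟩⟩
    exact (mem_center_iff.1 (hle ▸ mem_top (a : G) : (a : G) ∈ Subgroup.center G) b).symm
  set Q := P.mapSurjective hsurj with hQdef
  have hQc : (Q : Subgroup (G ⧸ Subgroup.center G)) = (P : Subgroup G).map π := Sylow.coe_mapSurjective hsurj P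
  have hnotcyc : ¬ IsCyclic (Q : Subgroup (G ⧸ Subgroup.center G)) := fun hc =>
    hna (isMulCommutative_of_image_cyclic π _ hkerc.le (hQc ▸ hc))
  have hdvd : Nat.card (Q : Subgroup (G ⧸ Subgroup.center G)) ∣ 8 := by
    rw [hQc, ← h8]
    exact (P : Subgroup G).card_map_dvd π
  have hQ8 : Nat.card (Q : Subgroup (G ⧸ Subgroup.center G)) = 8 ∨
      Nat.card (Q : Subgroup (G ⧸ Subgroup.center G)) = 4 := by
    have h1 : ¬ (Nat.card (Q : Subgroup (G ⧸ Subgroup.center G)) ≤ 2) := by
      intro hle
      apply hnotcyc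
      have hpos : 0 < Nat.card (Q : Subgroup (G ⧸ Subgroup.center G)) := Nat.card_pos
      rcases (show Nat.card (Q : Subgroup (G ⧸ Subgroup.center G)) = 1 ∨
          Nat.card (Q : Subgroup (G ⧸ Subgroup.center G)) = 2 by omega) with h | h
      · haveI := (Nat.card_eq_one_iff_unique.1 h).1
        infer_instance
      · exact isCyclic_of_prime_card h
    have hle := Nat.le_of_dvd (by norm_num) hdvd
    generalize Nat.card (Q : Subgroup (G ⧸ Subgroup.center G)) = k at hdvd hle h1
    interval_cases k <;> omega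
  -- the Sylow subgroup of the simple quotient is dihedral
  obtain ⟨n, hn, hdih⟩ : ∃ n, 2 ≤ n ∧ Nonempty ((Q : Subgroup (G ⧸ Subgroup.center G)) ≃* DihedralGroup n) := by
    rcases hQ8 with h | h
    · have heq : (P : Subgroup G) ⊓ Subgroup.center G = ⊥ := by
        have hr : (π.subgroupMap (P : Subgroup G)).ker = ⊥ := by
          rw [← card_eq_one]
          have h2 := card_mul_index (π.subgroupMap (P : Subgroup G)).ker
          have hh : Nat.card ((P : Subgroup G).map π) = 8 :=
            (congrArg (fun K : Subgroup (G ⧸ Subgroup.center G) => Nat.card K) hQc).symm.trans h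
          rw [index_ker, MonoidHom.range_eq_top.2 (π.subgroupMap_surjective _), card_top, hh, h8] at h2
          omega
        rw [eq_bot_iff]
        rintro x ⟨hxP, hxZ⟩
        have : (⟨x, hxP⟩ : (P : Subgroup G)) ∈ (π.subgroupMap (P : Subgroup G)).ker :=
          Subtype.ext ((QuotientGroup.eq_one_iff x).2 hxZ)
        rw [hr, mem_bot] at this
        exact mem_bot.2 (congrArg Subtype.val this)
      rcases CfsgLib.Perm.Alt2520.eight_cases h with hc | hd | hquat
      · exfalso
        refine hna ⟨⟨fun a b => Subtype.ext ?_⟩⟩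
        have hmem : ⁅(a : G), (b : G)⁆ ∈ (P : Subgroup G) ⊓ Subgroup.center G := by
          refine ⟨(⁅a, b⁆ : (P : Subgroup G)).2, ?_⟩
          show ⁅(a : G), (b : G)⁆ ∈ Subgroup.center G
          rw [← hkerc, MonoidHom.mem_ker, map_commutatorElement, commutatorElement_eq_one_iff_mul_comm]
          exact congrArg Subtype.val (hc ⟨π a, hQc ▸ mem_map_of_mem π a.2⟩ ⟨π b, hQc ▸ mem_map_of_mem π b.2⟩)
        rw [heq, mem_bot, commutatorElement_eq_one_iff_mul_comm] at hmem
        exact hmem
      · exact ⟨4, by norm_num, hd⟩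
      · exfalso
        obtain ⟨e⟩ := hquat
        obtain ⟨x, hx⟩ := exists_prime_orderOf_dvd_card' (G := (Q : Subgroup (G ⧸ Subgroup.center G))) 2
          (by rw [h]; norm_num)
        have hx' : orderOf (x : G ⧸ Subgroup.center G) = 2 := by rw [Subgroup.orderOf_coe, hx]
        have hu := fun g => CfsgLib.ZStar.mem_oddCore_of_unique Q hx' x.2 (fun y hy hy2 => by
          have h2 := CfsgLib.ZStar.quaternion_unique_involution (x := e ⟨y, hy⟩) (y := e x)
            (by rw [MulEquiv.orderOf_eq, Subgroup.orderOf_mk]; exact hy2) (by rw [MulEquiv.orderOf_eq]; exact hx)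
          exact congrArg Subtype.val (e.injective h2)) g
        rw [CfsgLib.Perm.SuborbitThree.oddCore_eq_bot (hx' ▸ orderOf_dvd_natCard _)] at hu
        have hcen : (x : G ⧸ Subgroup.center G) ∈ Subgroup.center (G ⧸ Subgroup.center G) := by
          refine mem_center_iff.2 fun g => ?_
          have := mem_bot.1 (hu g)
          rw [← commutatorElement_def, commutatorElement_eq_one_iff_mul_comm] at this
          exact this.symm
        rcases (inferInstance : (Subgroup.center (G ⧸ Subgroup.center G)).Normal).eq_bot_or_eq_top with hb | ht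
        · rw [hb, mem_bot] at hcen
          rw [hcen, orderOf_one] at hx'
          omega
        · exact hnc fun a b => (mem_center_iff.1 (ht ▸ mem_top a : a ∈ Subgroup.center _) b).symm
    · exact ⟨2, le_rfl, four_dihedral h hnotcyc⟩
  rcases CfsgLib.Perm.SuborbitThree.dihedral_simple hnc hn hdih with ⟨F, iF, iF', hodd, -, he⟩ | ⟨⟨e⟩⟩
  · exact Or.inr (Or.inr ⟨F, iF, iF', hodd, he⟩)
  -- the centre of a cover of the alternating group of degree seven
  have hA : Nat.card (alternatingGroup (Fin 7)) = 2520 := by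
    have := nat_card_alternatingGroup (α := Fin 7)
    rw [this, Nat.card_fin]
    rfl
  have hX : Nat.card (G ⧸ Subgroup.center G) = 2520 := by rw [Nat.card_congr e.toEquiv, hA]
  have hGZ : Nat.card G = 2520 * Nat.card (Subgroup.center G) := by
    rw [← (Subgroup.center G).card_mul_index, index_eq_card, hX, mul_comm]
  -- facts about the Sylow subgroups
  have hsyl : ∀ p : ℕ, p.Prime → ∀ R : Sylow p G,
      Subgroup.center G ⊓ (R : Subgroup G) ≤ ⁅(R : Subgroup G), (R : Subgroup G)⁆ := fun p hp R => by
    haveI := Fact.mk hp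
    exact center_inf_sylow_le hperf R
  have himg : ∀ p : ℕ, p.Prime → ∀ R : Sylow p G,
      Nat.card ((R : Subgroup G).map π) = p ^ (2520 : ℕ).factorization p := fun p hp R => by
    haveI := Fact.mk hp
    rw [← Sylow.coe_mapSurjective hsurj R, Sylow.card_eq_multiplicity, hX]
  have hpart : ∀ p : ℕ, p.Prime → ∀ R : Sylow p G,
      Nat.card (R : Subgroup G) = p ^ (2520 : ℕ).factorization p * p ^ (Nat.card (Subgroup.center G)).factorization p := by
    intro p hp R
    haveI := Fact.mk hp
    rw [R.card_eq_multiplicity, hGZ, Nat.factorization_mul (by norm_num) Nat.card_pos.ne', Finsupp.add_apply, pow_add]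
  have hpow : ∀ p : ℕ, p.Prime → (Nat.card (Subgroup.center G)).factorization p ≠ 0 →
      ∀ R : Sylow p G, ∃ z ∈ Subgroup.center G ⊓ (R : Subgroup G), z ≠ 1 := by
    intro p hp hf R
    haveI := Fact.mk hp
    obtain ⟨z, hz⟩ := exists_prime_orderOf_dvd_card' (G := Subgroup.center G) p (Nat.dvd_of_factorization_pos hf)
    refine ⟨z, ⟨z.2, ?_⟩, fun h => ?_⟩
    · have hp' : IsPGroup p (zpowers (z : G)) := IsPGroup.of_card (n := 1) (by
        rw [Nat.card_zpowers, Subgroup.orderOf_coe, hz, pow_one])
      haveI : (zpowers (z : G)).Normal := ⟨fun a ha g => by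
        obtain ⟨i, rfl⟩ := mem_zpowers_iff.1 ha
        rw [mem_center_iff.1 (zpow_mem z.2 i) g, mul_inv_cancel_right]
        exact zpow_mem (mem_zpowers _) i⟩
      exact hp'.le_sylow_of_normal R (mem_zpowers _)
    · rw [← Subgroup.orderOf_coe, h, orderOf_one] at hz
      exact hp.one_lt.ne hz
  have hcomm : ∀ p : ℕ, p.Prime → ∀ R : Sylow p G, IsCyclic ((R : Subgroup G).map π) →
      ∀ z ∈ Subgroup.center G ⊓ (R : Subgroup G), z = 1 := by
    intro p hp R hc z hz
    have hcm := isMulCommutative_of_image_cyclic π _ hkerc.le hc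
    have h1 : ⁅(R : Subgroup G), (R : Subgroup G)⁆ = ⊥ := (commutator_self_eq_bot_iff).2 hcm
    have := hsyl p hp R hz
    rwa [h1, mem_bot] at this
  have hne3 : ∀ p : ℕ, p.Prime → p ≠ 3 → (Nat.card (Subgroup.center G)).factorization p = 0 := by
    intro p hp hp3
    by_contra hf
    haveI := Fact.mk hp
    by_cases hp2 : p = 2
    · subst hp2
      have := hpart 2 hp P
      rw [h8] at this
      have h3 : (2520 : ℕ).factorization 2 = 3 := by
        rw [show (2520 : ℕ) = 2 ^ 3 * 315 from rfl, Nat.factorization_mul (by norm_num) (by norm_num),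
          Finsupp.add_apply, Nat.Prime.factorization_pow Nat.prime_two, Finsupp.single_eq_same,
          Nat.factorization_eq_zero_of_not_dvd (by norm_num)]
      rw [h3] at this
      have hlt : 2 ≤ 2 ^ (Nat.card (Subgroup.center G)).factorization 2 := by
        calc 2 = 2 ^ 1 := rfl
          _ ≤ _ := Nat.pow_le_pow_right (by norm_num) (Nat.pos_of_ne_zero hf)
      omega
    obtain ⟨R⟩ := (Sylow.nonempty : Nonempty (Sylow p G))
    obtain ⟨z, hz, hz1⟩ := hpow p hp hf R
    refine hz1 (hcomm p hp R ?_ z hz)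
    have hle : (2520 : ℕ).factorization p ≤ 1 := by
      by_contra hgt
      have hd : p ^ 2 ∣ 2520 := (hp.pow_dvd_iff_le_factorization (by norm_num)).2 (by omega)
      have hp50 : p ≤ 50 := by
        have := Nat.le_of_dvd (by norm_num) hd
        nlinarith
      have := hp.two_le
      have key : ∀ q : Fin 51, (q : ℕ) ^ 2 ∣ 2520 → (q : ℕ) = 1 ∨ (q : ℕ) = 2 ∨ (q : ℕ) = 3 ∨ (q : ℕ) = 6 := by decide
      rcases key ⟨p, by omega⟩ hd with h | h | h | h <;> simp only at h
      · omega
      · exact hp2 h
      · exact hp3 h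
      · subst h; norm_num at hp
    rcases (show (2520 : ℕ).factorization p = 0 ∨ (2520 : ℕ).factorization p = 1 by omega) with h | h
    · have h1 : Nat.card ((R : Subgroup G).map π) = 1 := by rw [himg p hp R, h, pow_zero]
      haveI := (Nat.card_eq_one_iff_unique.1 h1).1
      infer_instance
    · exact isCyclic_of_prime_card (p := p) (by rw [himg p hp R, h, pow_one])
  have h3le : (Nat.card (Subgroup.center G)).factorization 3 ≤ 1 := by
    haveI : Fact (Nat.Prime 3) := ⟨Nat.prime_three⟩
    obtain ⟨R⟩ := (Sylow.nonempty : Nonempty (Sylow 3 G))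
    have h9 : Nat.card ((R : Subgroup G).map π) = 3 ^ 2 := by
      rw [himg 3 Nat.prime_three R, show (2520 : ℕ) = 3 ^ 2 * 280 from rfl,
        Nat.factorization_mul (by norm_num) (by norm_num), Finsupp.add_apply,
        Nat.Prime.factorization_pow Nat.prime_three, Finsupp.single_eq_same,
        Nat.factorization_eq_zero_of_not_dvd (by norm_num)]
    by_cases hc : IsCyclic ((R : Subgroup G).map π)
    · by_contra hgt
      obtain ⟨z, hz, hz1⟩ := hpow 3 Nat.prime_three (by omega) R
      exact hz1 (hcomm 3 Nat.prime_three R hc z hz)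
    haveI hcm : IsMulCommutative ((R : Subgroup G).map π) := IsPGroup.isMulCommutative_of_card_eq_prime_sq h9
    have hexp : ∀ x ∈ (R : Subgroup G), x ^ 3 ∈ Subgroup.center G := by
      intro x hx
      have he := (not_isCyclic_iff_exponent_eq_prime Nat.prime_three h9).1 hc
      have h1 : (⟨π x, mem_map_of_mem π hx⟩ : (R : Subgroup G).map π) ^ 3 = 1 := by
        have := Monoid.pow_exponent_eq_one (⟨π x, mem_map_of_mem π hx⟩ : (R : Subgroup G).map π)
        rwa [he] at this
      rw [← hkerc, MonoidHom.mem_ker, map_pow]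
      exact congrArg Subtype.val h1
    have hcen : ∀ a ∈ (R : Subgroup G), ∀ b ∈ (R : Subgroup G), ⁅a, b⁆ ∈ Subgroup.center G := by
      intro a ha b hb
      rw [← hkerc, MonoidHom.mem_ker, map_commutatorElement, commutatorElement_eq_one_iff_mul_comm]
      exact congrArg Subtype.val
        (hcm.is_comm.comm ⟨π a, mem_map_of_mem π ha⟩ ⟨π b, mem_map_of_mem π hb⟩)
    obtain ⟨⟨_, a, ha, rfl⟩, hane⟩ : ∃ a : (R : Subgroup G).map π, a ≠ 1 := by
      haveI : Nontrivial ((R : Subgroup G).map π) := Finite.one_lt_card_iff_nontrivial.1 (by rw [h9]; norm_num)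
      exact exists_ne 1
    have hlt : zpowers (⟨π a, mem_map_of_mem π ha⟩ : (R : Subgroup G).map π) ≠ ⊤ := fun h =>
      hc ⟨⟨_, fun x => h ▸ mem_top x⟩⟩
    obtain ⟨⟨_, b, hb, rfl⟩, hbne⟩ : ∃ b : (R : Subgroup G).map π,
        b ∉ zpowers (⟨π a, mem_map_of_mem π ha⟩ : (R : Subgroup G).map π) := by
      by_contra hcon
      push Not at hcon
      exact hlt (eq_top_iff.2 fun x _ => hcon x)
    set c := ⁅a, b⁆ with hcdef
    have hc3 : c ^ 3 = 1 := by
      have hcc := hcen a ha b hb
      have e1 : a * b * a⁻¹ = c * b := by rw [hcdef, commutatorElement_def]; group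
      have e2 : a * b ^ 3 * a⁻¹ = (c * b) ^ 3 := by rw [← e1, conj_pow]
      rw [(show Commute c b from (mem_center_iff.1 hcc b).symm).mul_pow,
        mem_center_iff.1 (hexp b hb) a, mul_inv_cancel_right] at e2
      exact (mul_eq_right.1 e2.symm)
    -- the derived group of `R` lies in `⟨c⟩`
    have hgen : ∀ x ∈ (R : Subgroup G), ∃ i j : ℕ, ∃ w ∈ Subgroup.center G, x = a ^ i * b ^ j * w := by
      intro x hx
      let f : Fin 3 × Fin 3 → (R : Subgroup G).map π := fun ij =>
        ⟨π (a ^ (ij.1 : ℕ) * b ^ (ij.2 : ℕ)), mem_map_of_mem π (mul_mem (pow_mem ha _) (pow_mem hb _))⟩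
      have hf : Function.Injective f := by
        rintro ⟨i, j⟩ ⟨i', j'⟩ he
        set A : (R : Subgroup G).map π := ⟨π a, mem_map_of_mem π ha⟩
        set B : (R : Subgroup G).map π := ⟨π b, mem_map_of_mem π hb⟩
        have hA : A ^ 3 = 1 := Subtype.ext (by
          show π a ^ 3 = 1
          rw [← map_pow]; exact (QuotientGroup.eq_one_iff _).2 (hexp a ha))
        have hB : B ^ 3 = 1 := Subtype.ext (by
          show π b ^ 3 = 1
          rw [← map_pow]; exact (QuotientGroup.eq_one_iff _).2 (hexp b hb))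
        have hAo : orderOf A = 3 := orderOf_eq_prime hA hane
        have hBo : orderOf B = 3 := orderOf_eq_prime hB fun h => hbne (show B ∈ zpowers A by rw [h]; exact one_mem _)
        have he' : A ^ (i : ℕ) * B ^ (j : ℕ) = A ^ (i' : ℕ) * B ^ (j' : ℕ) := Subtype.ext (by
          have := congrArg Subtype.val he
          simp only [f, map_mul, map_pow] at this
          exact this)
        have hBA : B ^ ((j : ℤ) - (j' : ℤ)) ∈ zpowers A := by
          have : B ^ ((j : ℤ) - (j' : ℤ)) = A ^ ((i' : ℤ) - (i : ℤ)) := by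
            rw [_root_.zpow_sub, _root_.zpow_sub, _root_.zpow_natCast, _root_.zpow_natCast, _root_.zpow_natCast, _root_.zpow_natCast,
              eq_mul_inv_iff_mul_eq, hcm.is_comm.comm, ← mul_assoc, mul_inv_eq_iff_eq_mul]
            exact he'
          rw [this]; exact zpow_mem (mem_zpowers A) _
        have hj : (j : ℕ) = (j' : ℕ) := by
          by_contra hne
          apply hbne
          have hcop : IsCoprime ((j : ℤ) - (j' : ℤ)) 3 := by
            rw [Int.isCoprime_iff_nat_coprime]
            have hj1 := j.2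
            have hj2 := j'.2
            have : ((j : ℤ) - (j' : ℤ)).natAbs = 1 ∨ ((j : ℤ) - (j' : ℤ)).natAbs = 2 := by omega
            rcases this with h | h <;> rw [h] <;> norm_num
          obtain ⟨s, t, hst⟩ := hcop
          have : B = (B ^ ((j : ℤ) - (j' : ℤ))) ^ s := by
            conv_lhs => rw [← _root_.zpow_one B, ← hst, _root_.zpow_add, mul_comm t 3, _root_.zpow_mul B 3 t,
              show B ^ (3 : ℤ) = 1 from by rw [show (3 : ℤ) = ((3 : ℕ) : ℤ) from rfl, _root_.zpow_natCast, hB],
              _root_.one_zpow, mul_one, mul_comm s, _root_.zpow_mul]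
          show B ∈ zpowers A
          rw [this]; exact zpow_mem hBA s
        rw [hj, mul_left_inj] at he'
        have hi : (i : ℕ) = (i' : ℕ) := pow_injOn_Iio_orderOf (by rw [hAo]; exact i.2) (by rw [hAo]; exact i'.2) he'
        exact Prod.ext (Fin.ext hi) (Fin.ext hj)
      have hbij : Function.Bijective f := by
        haveI := Fintype.ofFinite ((R : Subgroup G).map π)
        exact (Fintype.bijective_iff_injective_and_card f).2 ⟨hf, by
          rw [Fintype.card_prod, Fintype.card_fin, ← Nat.card_eq_fintype_card, h9]; norm_num⟩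
      obtain ⟨⟨i, j⟩, hij⟩ := hbij.2 ⟨π x, mem_map_of_mem π hx⟩
      refine ⟨i, j, (a ^ (i : ℕ) * b ^ (j : ℕ))⁻¹ * x, ?_, by group⟩
      rw [← hkerc, MonoidHom.mem_ker, map_mul, map_inv, inv_mul_eq_one]
      exact congrArg Subtype.val hij
    have hcc : c ∈ Subgroup.center G := hcen a ha b hb
    have hder : ⁅(R : Subgroup G), (R : Subgroup G)⁆ ≤ zpowers c := by
      rw [commutator_le]
      intro x hx y hy
      -- commutators with a fixed second entry
      have hbil : ∀ w ∈ (R : Subgroup G), ⁅a, w⁆ ∈ zpowers c → ⁅b, w⁆ ∈ zpowers c →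
          ∀ v ∈ (R : Subgroup G), ⁅v, w⁆ ∈ zpowers c := by
        intro w hw haw hbw v hv
        have hmul : ∀ v₁ ∈ (R : Subgroup G), ∀ v₂ ∈ (R : Subgroup G), ⁅v₁, w⁆ ∈ zpowers c → ⁅v₂, w⁆ ∈ zpowers c →
            ⁅v₁ * v₂, w⁆ ∈ zpowers c := by
          intro v₁ hv₁ v₂ hv₂ h1 h2
          have e : ⁅v₁ * v₂, w⁆ = v₁ * ⁅v₂, w⁆ * v₁⁻¹ * ⁅v₁, w⁆ := by simp only [commutatorElement_def]; group
          rw [e, mem_center_iff.1 (hcen v₂ hv₂ w hw) v₁, mul_inv_cancel_right]
          exact mul_mem h2 h1
        have hp : ∀ v₁ ∈ (R : Subgroup G), ⁅v₁, w⁆ ∈ zpowers c → ∀ n : ℕ, ⁅v₁ ^ n, w⁆ ∈ zpowers c := by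
          intro v₁ hv₁ h1 n
          induction n with
          | zero => rw [pow_zero, commutatorElement_one_left]; exact one_mem _
          | succ n ih => rw [pow_succ]; exact hmul _ (pow_mem hv₁ n) _ hv₁ ih h1
        obtain ⟨i, j, z, hz, rfl⟩ := hgen v hv
        have hzR : z ∈ (R : Subgroup G) := by
          have := mul_mem (inv_mem (mul_mem (pow_mem ha i) (pow_mem hb j))) hv
          rwa [inv_mul_cancel_left] at this
        refine hmul _ (mul_mem (pow_mem ha i) (pow_mem hb j)) _ hzR
          (hmul _ (pow_mem ha i) _ (pow_mem hb j) (hp a ha haw i) (hp b hb hbw j)) ?_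
        rw [commutatorElement_eq_one_iff_mul_comm.2 (mem_center_iff.1 hz w).symm]
        exact one_mem _
      have hswap : ∀ u v : G, ⁅u, v⁆ ∈ zpowers c → ⁅v, u⁆ ∈ zpowers c := fun u v h => by
        rw [← commutatorElement_inv]; exact inv_mem h
      have haa : ⁅a, a⁆ ∈ zpowers c := by rw [commutatorElement_self]; exact one_mem _
      have hbb : ⁅b, b⁆ ∈ zpowers c := by rw [commutatorElement_self]; exact one_mem _
      have hab : ⁅a, b⁆ ∈ zpowers c := mem_zpowers c
      have hxa := hbil a ha haa (hswap _ _ hab) y hy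
      have hxb := hbil b hb hab hbb y hy
      exact hbil y hy (hswap _ _ hxa) (hswap _ _ hxb) x hx
    have hcard : Nat.card (Subgroup.center G ⊓ (R : Subgroup G) : Subgroup G) ≤ 3 := by
      refine (Nat.card_mono (Set.toFinite _) ((hsyl 3 Nat.prime_three R).trans hder)).trans ?_
      rw [SetLike.coe_sort_coe, Nat.card_zpowers]
      exact Nat.le_of_dvd (by norm_num) (orderOf_dvd_of_pow_eq_one hc3)
    have hkr : (Subgroup.center G ⊓ (R : Subgroup G) : Subgroup G).subgroupOf (R : Subgroup G) =
        (π.subgroupMap (R : Subgroup G)).ker := by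
      ext x
      rw [MonoidHom.mem_ker, mem_subgroupOf]
      refine ⟨fun h => Subtype.ext ((QuotientGroup.eq_one_iff (x : G)).2 h.1), fun h =>
        ⟨(QuotientGroup.eq_one_iff (x : G)).1 (congrArg Subtype.val h), x.2⟩⟩
    have h2 := card_mul_index (π.subgroupMap (R : Subgroup G)).ker
    rw [index_ker, MonoidHom.range_eq_top.2 (π.subgroupMap_surjective _), card_top, ← hkr,
      Nat.card_congr (subgroupOfEquivOfLe inf_le_right).toEquiv, hpart 3 Nat.prime_three R, himg 3 Nat.prime_three R,
      mul_comm] at h2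
    have h3 : 3 ^ (Nat.card (Subgroup.center G)).factorization 3 ≤ 3 := by
      have := Nat.eq_of_mul_eq_mul_left (pow_pos (by norm_num : 0 < 3) _) h2
      omega
    exact (Nat.pow_le_pow_iff_right (by norm_num : 1 < 3)).1 (h3.trans_eq (pow_one 3).symm)
  have hZ : Nat.card (Subgroup.center G) ∣ 3 := by
    refine (Nat.factorization_le_iff_dvd Nat.card_pos.ne' (by norm_num)).1 fun p => ?_
    by_cases hp : p.Prime
    · by_cases hp3 : p = 3
      · subst hp3; rw [Nat.Prime.factorization_self Nat.prime_three]; exact h3le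
      · rw [hne3 p hp hp3]; exact Nat.zero_le _
    · rw [Nat.factorization_eq_zero_of_not_prime _ hp]; exact Nat.zero_le _
  rcases (Nat.dvd_prime Nat.prime_three).1 hZ with h | h
  · refine Or.inl ⟨?_⟩
    have hb : Subgroup.center G = ⊥ := card_eq_one.1 h
    exact ((QuotientGroup.quotientBot).symm.trans (QuotientGroup.quotientMulEquivOfEq hb.symm)).trans e
  · exact Or.inr (Or.inl ⟨h, ⟨e⟩⟩)

end CfsgLib.TwoGroups.CentreIndexFour
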