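import Cfsg.Agent.Lib.TwoGroups.CentreIndexFour.Cosets
import Cfsg.Agent.Lib.TwoFusion.AbelianFactor.Main
import Cfsg.Agent.Lib.Signalizer.Involutions

/-!
Owner: helper2.  A Sylow 2-subgroup with centre of index four in a perfect group is the product of a
dihedral group of order eight and an abelian group, both strongly closed (for S4594).
-/

set_option autoImplicit false
set_option linter.unusedSectionVars false
set_option linter.style.haveILetI false

namespace CfsgLib.TwoGroups.CentreIndexFour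

open Subgroup Cfsg
open scoped commutatorElement
open CfsgLib.TwoFusion.AbelianFactor (Fib Good)

universe u

namespace NaCtx

variable {G : Type u} [Group G] [Finite G] {S : Sylow 2 G} {c : G} (K : NaCtx S c)

include K

omit K in
theorem _root_.CfsgLib.TwoGroups.CentreIndexFour.dihedralFour_center :
    ∀ q : DihedralGroup 4, (∀ p, p * q = q * p) → q = 1 ∨ q = DihedralGroup.r 2 := by
  decide

theorem exists_fib (hperf : commutator G = ⊤) (hidx : (Subgroup.center (S : Subgroup G)).index = 4)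
    {g₁ : G} (hg₁ : g₁ * c * g₁⁻¹ ∈ (S : Subgroup G)) (hne₁ : g₁ * c * g₁⁻¹ ≠ c) :
    ∃ D W : Subgroup G, Fib S D W ∧ Nat.card D = 8 := by
  haveI : Fact (Nat.Prime 2) := ⟨Nat.prime_two⟩
  set x₁ := g₁ * c * g₁⁻¹ with hx₁d
  have hx₁0 : x₁ ∉ sylCenter S := fun h => hne₁ (K.eq_of_conj_center h hx₁d.symm)
  obtain ⟨B, hBN, hodd, hdec⟩ := exists_odd_complement S
  have hBo : ∀ β ∈ B, Odd (orderOf β) := fun β hβ => odd_orderOf hodd hβ
  have htriv : ∀ β ∈ B, ∀ s ∈ (S : Subgroup G), β * s * β⁻¹ * s⁻¹ ∈ sylCenter S := fun β hβ =>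
    K.trivial_on_quotient hidx hg₁ rfl hx₁0 (hBN hβ) (hBo β hβ)
  -- a conjugate of `c` in a second coset
  obtain ⟨x₂, g₂, hx₂S, hx₂g, h12⟩ : ∃ x₂ g₂, x₂ ∈ (S : Subgroup G) ∧ x₂ = g₂ * c * g₂⁻¹ ∧
      ¬ Commute x₁ x₂ := by
    by_contra hall
    push Not at hall
    have hle := K.le_gruen hperf hdec hBN hodd (T := sylCenter S) (D := abMax S x₁) inf_le_left
      (hBN.trans K.normalizer_le_center) (fun s hs β hβ => htriv β hβ s hs) K.c_mem_center le_rfl
      fun v g hv hvg => mem_abMax.2 ⟨hv, (hall v g hv hvg).symm⟩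
    obtain ⟨y, hy, hya⟩ := K.exists_partner hg₁ hx₁0
    exact hya (mem_abMax.1 ((sup_le (sylCenter_le_abMax hg₁) le_rfl) (hle hy))).2
  have hx₂0 : x₂ ∉ sylCenter S := fun h => h12 (((mem_sylCenter.1 h).2 x₁ hg₁))
  have hcx : ∀ {x g : G}, x ∈ (S : Subgroup G) → x = g * c * g⁻¹ → x ∉ sylCenter S →
      ∀ β ∈ B, Commute β x := by
    intro x g hx hxg hx0 β hβ
    have key : ∀ v h : G, v = h * c * h⁻¹ → v = x ∨ v = c * x →
        β * v * β⁻¹ = x ∨ β * v * β⁻¹ = c * x := by
      intro v h hvh hv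
      have hvA : v ∈ abMax S x := by
        rcases hv with e | e <;> rw [e]
        · exact mem_abMax.2 ⟨hx, Commute.refl x⟩
        · exact mem_abMax.2 ⟨mul_mem K.mem hx, (K.cen x hx).symm.mul_left (Commute.refl x)⟩
      have hvS := (mem_abMax.1 hvA).1
      obtain ⟨e, he, he'⟩ : ∃ e ∈ sylCenter S, β * v * β⁻¹ = e * v :=
        ⟨_, htriv β hβ v hvS, by group⟩
      have hA : β * v * β⁻¹ ∈ abMax S x := by
        rw [he']; exact mul_mem (sylCenter_le_abMax hx he) hvA
      rcases K.in_coset hx hxg hx0 hA (h := β * h) (by rw [hvh]; group) with h1 | h1 | h1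
      · exfalso
        have h2 : v = c := (MulAut.conj β).injective (by
          rw [MulAut.conj_apply, MulAut.conj_apply, h1, K.normalizer_fix (hBN hβ)])
        rcases hv with e | e <;> rw [e] at h2
        · exact hx0 (h2 ▸ K.c_mem_center)
        · exact hx0 ((mul_eq_left.1 h2) ▸ one_mem _)
      · exact Or.inl h1
      · exact Or.inr h1
    refine fix_of_pair (hBo β hβ) (key x g hxg (Or.inl rfl)) ?_
    obtain ⟨y, hy, hya⟩ := K.exists_partner hx hx0
    refine key (c * x) (y * g) ?_ (Or.inr rfl)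
    rw [(K.cen x hx).eq.symm, ← K.comm_eq hy hx hya, hxg]
    group
  have hBx₁ := hcx hg₁ rfl hx₁0
  have hBx₂ := hcx hx₂S hx₂g hx₂0
  have hBc : ∀ β ∈ B, Commute β c := fun β hβ => mul_inv_eq_iff_eq_mul.1 (K.normalizer_fix (hBN hβ))
  -- the factors
  set Z := sylCenter S with hZd
  set W := ⁅Z, B⁆ with hWd
  set D := closure ({x₁, x₂} : Set G) with hDd
  have hBZ : B ≤ normalizer (Z : Set G) := hBN.trans K.normalizer_le_center
  have hWZ : W ≤ Z := le_normalizer_iff_commutator_le_left.mp hBZ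
  have hBW : B ≤ normalizer (W : Set G) := normalizer_commutator_ge_right Z B
  have hWS : W ≤ (S : Subgroup G) := hWZ.trans inf_le_left
  have hx₁D : x₁ ∈ D := subset_closure (Set.mem_insert x₁ {x₂})
  have hx₂D : x₂ ∈ D := subset_closure (Set.mem_insert_of_mem x₁ (Set.mem_singleton x₂))
  have hDS : D ≤ (S : Subgroup G) := by
    rw [hDd, closure_le]
    intro v hv
    rcases hv with h | h
    · subst h; exact hg₁
    · rw [Set.mem_singleton_iff] at h; subst h; exact hx₂S
  have hBD : ∀ β ∈ B, ∀ d ∈ D, Commute β d := fun β hβ => by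
    have : D ≤ centralizer ({β} : Set G) := by
      rw [hDd, closure_le]
      intro v hv
      refine mem_centralizer_singleton_iff.2 ?_
      rcases hv with h | h
      · subst h; exact (hBx₁ β hβ).symm.eq
      · rw [Set.mem_singleton_iff] at h; subst h; exact (hBx₂ β hβ).symm.eq
    exact fun d hd => (show Commute d β from mem_centralizer_singleton_iff.1 (this hd)).symm
  have hx₁2 : x₁ * x₁ = 1 := K.conj_c_sq g₁
  have hx₂2 : x₂ * x₂ = 1 := by rw [hx₂g]; exact K.conj_c_sq g₂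
  have h12c : x₁ * x₂ * x₁⁻¹ = x₂ * c := K.comm_eq hg₁ hx₂S h12
  have hr2 : x₁ * x₂ * (x₁ * x₂) = c := by
    rw [show x₁ * x₂ * (x₁ * x₂) = (x₁ * x₂ * x₁⁻¹) * (x₁ * x₁) * x₂ by group, hx₁2, h12c, mul_one,
      mul_assoc, ← (K.cen x₂ hx₂S).eq, ← mul_assoc, hx₂2, one_mul]
  have hcD : c ∈ D := by
    rw [← hr2]; exact mul_mem (mul_mem hx₁D hx₂D) (mul_mem hx₁D hx₂D)
  have hord : orderOf (x₁ * x₂) = 4 := by
    haveI : Fact (Nat.Prime 2) := ⟨Nat.prime_two⟩
    have := orderOf_eq_prime_pow (x := x₁ * x₂) (p := 2) (n := 1)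
      (by rw [pow_one, pow_two, hr2]; exact K.c_ne_one)
      (by rw [show (2 : ℕ) ^ (1 + 1) = 2 * 2 from rfl, pow_mul, pow_two, pow_two, hr2, K.c_sq])
    simpa using this
  have o1 : orderOf x₁ = 2 := orderOf_eq_prime (by rw [pow_two]; exact hx₁2)
    fun h => hx₁0 (h ▸ one_mem _)
  have o2 : orderOf x₂ = 2 := orderOf_eq_prime (by rw [pow_two]; exact hx₂2)
    fun h => hx₂0 (h ▸ one_mem _)
  have eD : Nonempty (D ≃* DihedralGroup 4) := by
    have hex := CfsgLib.Signalizer.exists_dihedral_hom o1 o2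
    rw [hord] at hex
    obtain ⟨f, hf, hfr⟩ := hex
    exact ⟨((MonoidHom.ofInjective (f := f) hf).trans (MulEquiv.subgroupCongr hfr)).symm⟩
  obtain ⟨eD⟩ := eD
  have hDZ : ∀ d ∈ D, d ∈ Z → d = 1 ∨ d = c := by
    intro d hd hdZ
    have cenD : ∀ (v : G) (hv : v ∈ D), v ∈ Z → ∀ p, p * eD ⟨v, hv⟩ = eD ⟨v, hv⟩ * p := by
      intro v hv hvZ p
      obtain ⟨q, rfl⟩ := eD.surjective p
      rw [← map_mul, ← map_mul]
      exact congrArg eD (Subtype.ext ((mem_sylCenter.1 hvZ).2 q (hDS q.2)).eq)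
    have hcc := dihedralFour_center _ (cenD c hcD K.c_mem_center)
    rcases dihedralFour_center _ (cenD d hd hdZ) with h | h
    · left
      exact congrArg Subtype.val (eD.injective (h.trans (map_one eD).symm))
    · right
      rcases hcc with h' | h'
      · exact absurd (congrArg Subtype.val (eD.injective (h'.trans (map_one eD).symm))) K.c_ne_one
      · exact congrArg Subtype.val (eD.injective (h.trans h'.symm))
  -- directness
  have hZab : IsMulCommutative Z :=
    ⟨⟨fun a b => Subtype.ext ((mem_sylCenter.1 b.2).2 a (mem_sylCenter.1 a.2).1).eq⟩⟩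
  have hcop : (Nat.card B).Coprime (Nat.card Z) := by
    obtain ⟨n, hn⟩ := IsPGroup.iff_card.1 (show IsPGroup 2 Z from S.2.to_le inf_le_left)
    rw [hn]
    exact (Nat.coprime_two_right.2 hodd).pow_right n
  have hinf : D ⊓ W = ⊥ := by
    refine (eq_bot_iff_forall _).2 fun d ⟨hd, hdW⟩ => ?_
    have h1 : d ∈ (Z ⊓ centralizer (B : Set G)) ⊓ ⁅Z, B⁆ :=
      ⟨⟨hWZ hdW, mem_centralizer_iff.2 fun β hβ => (hBD β hβ d hd).eq⟩, hdW⟩
    haveI := hZab
    rwa [CfsgLib.Core.abelian_inf_eq_bot hBZ hcop, mem_bot] at h1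
  have hsplit : ∀ s ∈ (S : Subgroup G),
      ∃ z ∈ Z, s = z ∨ s = z * x₁ ∨ s = z * x₂ ∨ s = z * x₁ * x₂ := by
    intro s hs
    obtain ⟨z, hz, hzc, h⟩ := K.span x₁ hg₁ x₂ hx₂S h12 s hs
    exact ⟨z, mem_sylCenter.2 ⟨hz, hzc⟩, h⟩
  have hSB : ∀ s ∈ (S : Subgroup G), ∀ β ∈ B, β * s * β⁻¹ * s⁻¹ ∈ W := by
    intro s hs β hβ
    obtain ⟨z, hz, h⟩ := hsplit s hs
    obtain ⟨d, hd, rfl⟩ : ∃ d ∈ D, s = z * d := by
      rcases h with h | h | h | h
      · exact ⟨1, D.one_mem, by rw [h, mul_one]⟩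
      · exact ⟨x₁, hx₁D, h⟩
      · exact ⟨x₂, hx₂D, h⟩
      · exact ⟨x₁ * x₂, mul_mem hx₁D hx₂D, by rw [h, mul_assoc]⟩
    rw [show β * (z * d) * β⁻¹ * (z * d)⁻¹ = (β * z * β⁻¹) * (β * d * β⁻¹) * d⁻¹ * z⁻¹ by group,
      mul_inv_eq_iff_eq_mul.2 (hBD β hβ d hd).eq, mul_inv_cancel_right]
    have h1 := W.inv_mem (commutator_mem_commutator hz hβ)
    convert h1 using 1
    rw [commutatorElement_def]; group
  have hTS : (S : Subgroup G) ≤ (W ⊔ zpowers c) ⊔ D := by
    refine K.le_gruen hperf hdec hBN hodd (sup_le hWS (zpowers_le.2 K.mem)) ?_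
      (fun s hs β hβ => mem_sup_left (hSB s hs β hβ)) (mem_sup_right (mem_zpowers c))
      (sup_le hWZ (zpowers_le.2 K.c_mem_center)) fun v g hv hvg => ?_
    · refine le_normalizer_iff.2 fun β hβ t ht => ?_
      obtain ⟨w, hw, k, hk, rfl⟩ := (CfsgLib.Core.mem_sup_iff_mul
        (show W ≤ normalizer (zpowers c : Set G) from fun w hw => centralizer_le_normalizer _
          (mem_centralizer_iff.2 fun k hk => by
            obtain ⟨n, rfl⟩ := mem_zpowers_iff.1 hk
            exact ((K.cen w (hWS hw)).zpow_right n).eq.symm))).1 ht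
      obtain ⟨n, rfl⟩ := mem_zpowers_iff.1 hk
      rw [show β * (w * c ^ n) * β⁻¹ = (β * w * β⁻¹) * (β * c ^ n * β⁻¹) by group,
        mul_inv_eq_iff_eq_mul.2 ((hBc β hβ).zpow_right n).eq]
      exact mul_mem (mem_sup_left ((mem_normalizer_iff.1 (hBW hβ) w).1 hw))
        (mem_sup_right (zpow_mem (mem_zpowers c) n))
    · by_cases hv0 : v ∈ Z
      · rw [K.eq_of_conj_center hv0 hvg.symm]; exact hcD
      rcases K.third hg₁ rfl hx₂S hx₂g h12 hv (by rw [hvg]; exact K.conj_c_sq g) hv0 with h | h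
      · rcases K.in_coset hg₁ rfl hx₁0 h hvg with e | e | e <;> rw [e]
        · exact hcD
        · exact hx₁D
        · exact mul_mem hcD hx₁D
      · rcases K.in_coset hx₂S hx₂g hx₂0 h hvg with e | e | e <;> rw [e]
        · exact hcD
        · exact hx₂D
        · exact mul_mem hcD hx₂D
  have hXD : ∀ v g : G, v ∈ (S : Subgroup G) → v = g * c * g⁻¹ → v ∈ D := by
    intro v g hv hvg
    by_cases hv0 : v ∈ Z
    · rw [K.eq_of_conj_center hv0 hvg.symm]; exact hcD
    rcases K.third hg₁ rfl hx₂S hx₂g h12 hv (by rw [hvg]; exact K.conj_c_sq g) hv0 with h | h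
    · rcases K.in_coset hg₁ rfl hx₁0 h hvg with e | e | e <;> rw [e]
      · exact hcD
      · exact hx₁D
      · exact mul_mem hcD hx₁D
    · rcases K.in_coset hx₂S hx₂g hx₂0 h hvg with e | e | e <;> rw [e]
      · exact hcD
      · exact hx₂D
      · exact mul_mem hcD hx₂D
  have hsup : D ⊔ W = (S : Subgroup G) := le_antisymm (sup_le hDS hWS)
    (hTS.trans (sup_le (sup_le le_sup_right ((zpowers_le.2 hcD).trans le_sup_left)) le_sup_left))
  have hDW : ∀ d ∈ D, ∀ w ∈ W, d * w = w * d := fun d hd w hw =>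
    ((mem_sylCenter.1 (hWZ hw)).2 d (hDS hd)).eq
  have hZdec : ∀ z ∈ Z, ∃ d ∈ D, ∃ w ∈ W, (d = 1 ∨ d = c) ∧ z = d * w := by
    intro z hz
    have hn : D ≤ normalizer (W : Set G) := fun d hd => centralizer_le_normalizer _
      (mem_centralizer_iff.2 fun w hw => (hDW d hd w hw).symm)
    obtain ⟨d, hd, w, hw, rfl⟩ := (CfsgLib.Core.mem_sup_iff_mul hn).1
      (hsup.ge (mem_sylCenter.1 hz).1)
    refine ⟨d, hd, w, hw, hDZ d hd ?_, rfl⟩
    have := mul_mem hz (Z.inv_mem (hWZ hw)); rwa [mul_inv_cancel_right] at this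
  have uniq : ∀ d ∈ D, ∀ d' ∈ D, ∀ w ∈ W, ∀ w' ∈ W, d * w = d' * w' → d = d' ∧ w = w' := by
    intro d hd d' hd' w hw w' hw' h
    have e : d'⁻¹ * d = w' * w⁻¹ := by rw [eq_mul_inv_iff_mul_eq, mul_assoc, h, inv_mul_cancel_left]
    have h1 : d'⁻¹ * d ∈ D ⊓ W := ⟨mul_mem (D.inv_mem hd') hd, by
      rw [e]; exact mul_mem hw' (W.inv_mem hw)⟩
    rw [hinf, mem_bot, inv_mul_eq_one] at h1
    exact ⟨h1.symm, mul_left_cancel (h1 ▸ h)⟩
  -- the third coset
  set r := x₁ * x₂ with hrd
  have hrS : r ∈ (S : Subgroup G) := mul_mem hg₁ hx₂S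
  have hr0 : r ∉ Z := fun h => h12 (by
    have h6 : Commute x₁ r := (mem_sylCenter.1 h).2 x₁ hg₁
    have := (Commute.refl x₁).inv_right.mul_right h6
    rwa [hrd, inv_mul_cancel_left] at this)
  obtain ⟨yr, hyr, hyra⟩ := K.exists_partner hrS hr0
  have hA₃nz : ∀ v ∈ abMax S r, v ∉ Z → v ∉ abMax S x₁ ∧ v ∉ abMax S x₂ := by
    intro v hv hv0
    have e := K.abMax_congr hrS hr0 hv hv0
    constructor <;> intro h
    · have h' : x₁ ∈ abMax S v := mem_abMax.2 ⟨hg₁, (mem_abMax.1 h).2.symm⟩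
      rw [e] at h'
      have h6 := (mem_abMax.1 h').2
      exact h12 (by
        have := (Commute.refl x₁).inv_right.mul_right h6
        rwa [hrd, inv_mul_cancel_left] at this)
    · have h' : x₂ ∈ abMax S v := mem_abMax.2 ⟨hx₂S, (mem_abMax.1 h).2.symm⟩
      rw [e] at h'
      have h6 := (mem_abMax.1 h').2
      exact h12 (by
        have := h6.mul_right (Commute.refl x₂).inv_right
        rw [hrd, mul_inv_cancel_right] at this
        exact this.symm)
  have hfix₃ : ∀ n ∈ normalizer (abMax S r : Set G), n * c * n⁻¹ = c := by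
    intro n hn
    have hA := (mem_normalizer_iff.1 hn c).1 (sylCenter_le_abMax hrS K.c_mem_center)
    by_cases h0 : n * c * n⁻¹ ∈ Z
    · exact K.eq_of_conj_center h0 rfl
    exfalso
    rcases K.third hg₁ rfl hx₂S hx₂g h12 (mem_abMax.1 hA).1 (K.conj_c_sq n) h0 with h | h
    · exact (hA₃nz _ hA h0).1 h
    · exact (hA₃nz _ hA h0).2 h
  have not_full : ∀ v ∈ abMax S r, v ∉ Z → ∀ g : G, g⁻¹ * v * g ∉ Z := by
    intro v hv hv0 g hgv
    obtain ⟨n, hn, hnz⟩ := K.exists_conj_center (mem_abMax.1 hv).1 hv0 hgv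
    rw [K.abMax_congr hrS hr0 hv hv0] at hn
    refine hv0 ?_
    have h := K.fix_preserves hrS hr0 hyr hyra hn (hfix₃ n hn) hnz
    rwa [show n * (n⁻¹ * v * n) * n⁻¹ = v by group] at h
  -- every element outside the third coset is conjugate into the centre
  have full : ∀ v ∈ (S : Subgroup G), v ∈ Z ∨ (∃ d ∈ D, ∃ w ∈ W, ∃ m, v = d * w ∧
      m * c * m⁻¹ = d ∧ Commute m w) ∨ (v ∈ abMax S r ∧ v ∉ Z) := by
    intro v hv
    by_cases hv0 : v ∈ Z
    · exact Or.inl hv0
    obtain ⟨z, hz, h⟩ := hsplit v hv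
    have mk : ∀ x g : G, x ∈ (S : Subgroup G) → x = g * c * g⁻¹ → x ∈ D → x ∉ Z → (∀ β ∈ B, Commute β x) →
        v = z * x → ∃ d ∈ D, ∃ w ∈ W, ∃ m, v = d * w ∧ m * c * m⁻¹ = d ∧ Commute m w := by
      intro x g hx hxg hxD hx0 hBx he
      obtain ⟨e, heD, w, hw, he1, rfl⟩ := hZdec z hz
      obtain ⟨y, hy, hya⟩ := K.exists_partner hx hx0
      obtain ⟨g', hg'⟩ : ∃ g', e * x = g' * c * g'⁻¹ := by
        rcases he1 with rfl | rfl
        · exact ⟨g, by rw [one_mul, hxg]⟩
        · exact ⟨y * g, by rw [(K.cen x hx).eq.symm, ← K.comm_eq hy hx hya, hxg]; group⟩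
      have heS : e * x ∈ (S : Subgroup G) := mul_mem (hDS heD) hx
      have heZ : e ∈ Z := by
        rcases he1 with rfl | rfl
        · exact Z.one_mem
        · exact K.c_mem_center
      have he0 : e * x ∉ Z := fun h => hx0 ((Z.mul_mem_cancel_left heZ).1 h)
      have hya' : ¬ Commute y (e * x) := fun h => hya (by
        have := ((mem_sylCenter.1 heZ).2 y hy).inv_right.mul_right h
        rwa [inv_mul_cancel_left] at this)
      obtain ⟨m, hm, hmW⟩ := K.exists_move heS he0 hy hya' hg'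
      refine ⟨e * x, mul_mem heD hxD, w, hw, m, ?_, hm, ?_⟩
      · rw [he, mul_assoc, ((mem_sylCenter.1 (hWZ hw)).2 x hx).eq.symm, ← mul_assoc]
      · have hle : W ≤ centralizer ({m} : Set G) := by
          rw [hWd, commutator_le]
          intro z' hz' β hβ
          refine mem_centralizer_singleton_iff.2 ?_
          have hβe : Commute β (e * x) := (hBD β hβ e heD).mul_right (hBx β hβ)
          have h := (hmW β (hBN hβ) hβe z'⁻¹ (Z.inv_mem hz'))
          have e' : ⁅z', β⁆ = β * z'⁻¹ * β⁻¹ * z'⁻¹⁻¹ := by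
            rw [commutatorElement_def, inv_inv]
            have h2 : β * z'⁻¹ * β⁻¹ ∈ Z := K.conj_center (hBN hβ) (Z.inv_mem hz')
            rw [((mem_sylCenter.1 hz').2 _ (mem_sylCenter.1 h2).1).eq]
            group
          rw [e']; exact h.symm.eq
        exact (show Commute w m from mem_centralizer_singleton_iff.1 (hle hw)).symm
    rcases h with h | h | h | h
    · exact absurd (h ▸ hz) hv0
    · exact Or.inr (Or.inl (mk x₁ g₁ hg₁ rfl hx₁D hx₁0 hBx₁ h))
    · exact Or.inr (Or.inl (mk x₂ g₂ hx₂S hx₂g hx₂D hx₂0 hBx₂ h))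
    · refine Or.inr (Or.inr ⟨mem_abMax.2 ⟨hv, ?_⟩, hv0⟩)
      rw [h, mul_assoc]
      exact ((mem_sylCenter.1 hz).2 r hrS).symm.mul_left (Commute.refl r)
  -- strong closure of the abelian factor
  have burn : ∀ z ∈ Z, ∀ z' ∈ Z, ∀ g : G, g * z * g⁻¹ = z' → ∃ β ∈ B, β * z * β⁻¹ = z' := by
    intro z hz z' hz' g hg
    obtain ⟨n, hn, hne⟩ := exists_normalizer_conj_central S (mem_sylCenter.1 hz).2
      (mem_sylCenter.1 hz').2 hg
    obtain ⟨s, hs, β, hβ, rfl⟩ := hdec n hn
    refine ⟨β, hβ, ?_⟩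
    rw [← hne, show s * β * z * (s * β)⁻¹ = s * (β * z * β⁻¹) * s⁻¹ by group,
      ((mem_sylCenter.1 (K.conj_center (hBN hβ) hz)).2 s hs).eq, mul_inv_cancel_right]
  have hWcl : IsStronglyClosed W (S : Subgroup G) := by
    refine ⟨hWS, fun w hw g hg => ?_⟩
    rcases full _ hg with h | ⟨d, hd, w', hw', m, he, hm, hmw⟩ | ⟨h, h0⟩
    · obtain ⟨β, hβ, he⟩ := burn w (hWZ hw) _ h g rfl
      rw [← he]; exact (mem_normalizer_iff.1 (hBW hβ) w).1 hw
    · exfalso
      have h1 : m⁻¹ * g * w * (m⁻¹ * g)⁻¹ = c * w' := by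
        rw [show m⁻¹ * g * w * (m⁻¹ * g)⁻¹ = m⁻¹ * (g * w * g⁻¹) * m by group, he, ← hm,
          show m⁻¹ * (m * c * m⁻¹ * w') * m = c * (m⁻¹ * w' * m) by group, mul_assoc m⁻¹,
          ← hmw.eq, inv_mul_cancel_left]
      obtain ⟨β, hβ, he'⟩ := burn w (hWZ hw) _ (mul_mem K.c_mem_center (hWZ hw')) _ h1
      have h2 := (mem_normalizer_iff.1 (hBW hβ) w).1 hw
      rw [he'] at h2
      have h3 : c ∈ D ⊓ W := ⟨hcD, (W.mul_mem_cancel_right hw').1 h2⟩
      rw [hinf, mem_bot] at h3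
      exact K.c_ne_one h3
    · exact absurd (show g⁻¹⁻¹⁻¹ * (g * w * g⁻¹) * g ∈ Z by
        rw [show g⁻¹⁻¹⁻¹ * (g * w * g⁻¹) * g = w by group]; exact hWZ hw)
        (by rw [inv_inv]; exact not_full _ h h0 g)
  -- fusion in the third coset
  have act₃ : ∀ δ ∈ normalizer (abMax S r : Set G), ∀ d ∈ D, d ∈ abMax S r → δ * d * δ⁻¹ ∈ D := by
    intro δ hδ d hd hdA
    set A := abMax S r with hA
    have hSA : (S : Subgroup G) ≤ normalizer (A : Set G) := K.le_normalizer_abMax hrS
    have hSC : (S : Subgroup G) ≤ normalizer (centralizer (A : Set G) : Set G) :=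
      le_normalizer_iff.2 fun s hs k hk => mem_centralizer_iff.2 fun a ha => by
        have h1 : s⁻¹ * a * s ∈ A := by
          have := (mem_normalizer_iff.1 (hSA (inv_mem hs)) a).1 ha
          rwa [inv_inv] at this
        have h2 := (show Commute (s⁻¹ * a * s) k from mem_centralizer_iff.1 hk _ h1).map
          (MulAut.conj s).toMonoidHom
        simp only [MulEquiv.coe_toMonoidHom, MulAut.conj_apply] at h2
        rw [show s * (s⁻¹ * a * s) * s⁻¹ = a by group] at h2
        exact h2.eq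
    set M := (S : Subgroup G) ⊔ centralizer (A : Set G) with hM
    have hδM : ((δ • S : Sylow 2 G) : Subgroup G) ≤ M := by
      intro v hv
      rw [CfsgLib.Transfer.mem_sylow_smul] at hv
      set s := δ⁻¹ * v * δ with hs
      have hvs : v = δ * s * δ⁻¹ := by rw [hs]; group
      have keyA : ∀ q : G, q ∈ normalizer (A : Set G) → (∀ z ∈ Z, Commute q z) →
          q * r * q⁻¹ = r → q ∈ centralizer (A : Set G) := fun q _ h1 h2 =>
        mem_centralizer_iff.2 fun a ha => by
          obtain ⟨z, hz, h | h⟩ := K.abMax_eq hrS hr0 ha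
          · rw [h]; exact (h1 z hz).eq.symm
          · rw [h]
            exact ((h1 z hz).mul_right (mul_inv_eq_iff_eq_mul.1 h2 : Commute q r)).eq.symm
      have hcZ : ∀ z ∈ Z, Commute v z := by
        intro z hz
        have h1 := K.fix_preserves hrS hr0 hyr hyra (inv_mem hδ) (by
          rw [inv_inv]
          calc δ⁻¹ * c * δ = δ⁻¹ * (δ * c * δ⁻¹) * δ := by rw [hfix₃ δ hδ]
            _ = c := by group) hz
        rw [inv_inv] at h1
        have h2 := ((mem_sylCenter.1 h1).2 s hv).map (MulAut.conj δ).toMonoidHom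
        simp only [MulEquiv.coe_toMonoidHom, MulAut.conj_apply] at h2
        rwa [← hvs, show δ * (δ⁻¹ * z * δ) * δ⁻¹ = z by group] at h2
      rcases K.outside hrS hr0 hyr hyra hv with h | h
      · refine mem_sup_left ?_
        have h' := (mem_normalizer_iff.1 hδ s).1 h
        rw [← hvs] at h'
        exact (mem_abMax.1 h').1
      · have hsA : ¬ Commute s r := fun hc => hyra (by
          have h5 : Commute (s * (yr⁻¹ * s)⁻¹) r := hc.mul_left (mem_abMax.1 h).2.inv_left
          rwa [mul_inv_rev, inv_inv, mul_inv_cancel_left] at h5)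
        have hvA : v ∈ normalizer (A : Set G) := by
          rw [hvs]; exact mul_mem (mul_mem hδ (hSA hv)) (inv_mem hδ)
        have hq : yr⁻¹ * v ∈ centralizer (A : Set G) := by
          refine keyA _ (mul_mem (inv_mem (hSA hyr)) hvA)
            (fun z hz => ((mem_sylCenter.1 hz).2 yr hyr).inv_left.mul_left (hcZ z hz)) ?_
          -- both send `r` to `r * c`
          have hu : δ⁻¹ * r * δ ∈ A := by
            have := (mem_normalizer_iff.1 (inv_mem hδ) r).1 (mem_abMax.2 ⟨hrS, Commute.refl r⟩)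
            rwa [inv_inv] at this
          have hu0 : δ⁻¹ * r * δ ∉ Z := fun h1 => hr0 (by
            have := K.fix_preserves hrS hr0 hyr hyra hδ (hfix₃ δ hδ) h1
            rwa [show δ * (δ⁻¹ * r * δ) * δ⁻¹ = r by group] at this)
          have hsu : ¬ Commute s (δ⁻¹ * r * δ) := fun hc => hsA (by
            have h4 : s ∈ abMax S (δ⁻¹ * r * δ) := mem_abMax.2 ⟨hv, hc⟩
            rw [K.abMax_congr hrS hr0 hu hu0] at h4
            exact (mem_abMax.1 h4).2)
          have h3 := K.comm_eq hv (mem_abMax.1 hu).1 hsu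
          have h4 : v * r * v⁻¹ = r * c := by
            rw [hvs, show δ * s * δ⁻¹ * r * (δ * s * δ⁻¹)⁻¹ = δ * (s * (δ⁻¹ * r * δ) * s⁻¹) * δ⁻¹ by group,
              h3, show δ * (δ⁻¹ * r * δ * c) * δ⁻¹ = r * (δ * c * δ⁻¹) by group, hfix₃ δ hδ]
          calc yr⁻¹ * v * r * (yr⁻¹ * v)⁻¹ = yr⁻¹ * (v * r * v⁻¹) * yr := by group
            _ = yr⁻¹ * (yr * r * yr⁻¹) * yr := by rw [h4, ← K.comm_eq hyr hrS hyra]
            _ = r := by group
        have := mul_mem (mem_sup_left hyr : yr ∈ M) (mem_sup_right hq)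
        rwa [mul_inv_cancel_left] at this
    obtain ⟨k, hk⟩ := MulAction.exists_smul_eq M ((δ • S).subtype hδM) (S.subtype (le_sup_left : _ ≤ M))
    simp_rw [Sylow.smul_subtype, Subgroup.smul_def, smul_smul] at hk
    have hn : (k : G) * δ ∈ normalizer ((S : Subgroup G) : Set G) :=
      Sylow.smul_eq_iff_mem_normalizer.mp (Sylow.subtype_injective hk)
    obtain ⟨s, hs, β, hβ, hsb⟩ := hdec _ hn
    obtain ⟨t, ht, q, hq, hkq⟩ := (CfsgLib.Core.mem_sup_iff_mul hSC).1 (inv_mem k.2)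
    have hconj : ∀ s ∈ (S : Subgroup G), ∀ d ∈ D, s * d * s⁻¹ ∈ D := fun s hs d hd => by
      rcases K.comm s hs d (hDS hd) with h | h <;> rw [h]
      · exact hd
      · exact mul_mem hd hcD
    have hδe : δ = t * q * (s * β) := by
      rw [← hkq, ← hsb]; group
    have h1 : β * d * β⁻¹ = d := mul_inv_eq_iff_eq_mul.2 (hBD β hβ d hd).eq
    have h2 := hconj s hs d hd
    have h3 : q * (s * d * s⁻¹) * q⁻¹ = s * d * s⁻¹ := mul_inv_eq_iff_eq_mul.2
      (mem_centralizer_iff.1 hq _ ((mem_normalizer_iff.1 (hSA hs) d).1 hdA)).symm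
    rw [hδe, show t * q * (s * β) * d * (t * q * (s * β))⁻¹ =
      t * (q * (s * (β * d * β⁻¹) * s⁻¹) * q⁻¹) * t⁻¹ by group, h1, h3]
    exact hconj t ht _ h2
  have hDcl : IsStronglyClosed D (S : Subgroup G) := by
    refine ⟨hDS, fun d hd g hg => ?_⟩
    rcases full d (hDS hd) with h | ⟨d', hd', w', hw', m, he, hm, -⟩ | ⟨h, h0⟩
    · rcases hDZ d hd h with rfl | rfl
      · rw [mul_one, mul_inv_cancel]; exact D.one_mem
      · exact hXD _ g hg rfl
    · obtain ⟨rfl, -⟩ := uniq d hd d' hd' 1 W.one_mem w' hw' (by rw [mul_one]; exact he)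
      exact hXD _ (g * m) hg (by rw [← hm]; group)
    · have hb := full _ hg
      set b := g * d * g⁻¹ with hbd
      have hbA : b ∈ abMax S r ∧ b ∉ Z := by
        rcases hb with h1 | ⟨d', hd', w', hw', m, he, hm, hmw⟩ | h1
        · exact absurd (show g⁻¹⁻¹ * d * g⁻¹ ∈ Z by rw [inv_inv]; exact h1) (not_full d h h0 g⁻¹)
        · exfalso
          refine not_full d h h0 (g⁻¹ * m) ?_
          have : (g⁻¹ * m)⁻¹ * d * (g⁻¹ * m) = c * w' := by
            rw [show (g⁻¹ * m)⁻¹ * d * (g⁻¹ * m) = m⁻¹ * b * m by rw [hbd]; group, he, ← hm,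
              show m⁻¹ * (m * c * m⁻¹ * w') * m = c * (m⁻¹ * w' * m) by group, mul_assoc m⁻¹,
              ← hmw.eq, inv_mul_cancel_left]
          rw [this]; exact mul_mem K.c_mem_center (hWZ hw')
        · exact h1
      -- adjust the conjugating element
      set A := abMax S r with hA
      set C := centralizer ({b} : Set G) with hC
      have hAC : A ≤ C := fun v hv =>
        mem_centralizer_singleton_iff.2 (K.abMax_comm hrS hr0 hv hbA.1).eq
      have hgAC : A.map (MulAut.conj g).toMonoidHom ≤ C := by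
        rintro _ ⟨v, hv, rfl⟩
        refine mem_centralizer_singleton_iff.2 ?_
        rw [hbd]
        exact ((K.abMax_comm hrS hr0 hv h).map (MulAut.conj g).toMonoidHom).eq
      have hAp : IsPGroup 2 A := S.2.to_le inf_le_left
      obtain ⟨R, hR⟩ := (hAp.of_equiv (subgroupOfEquivOfLe hAC).symm).exists_le_sylow
      set R₁ := (R : Subgroup C).map C.subtype with hR₁
      have hAR : A ≤ R₁ := fun v hv => ⟨⟨v, hAC hv⟩, hR hv, rfl⟩
      have hR₁p : IsPGroup 2 R₁ := R.2.map _
      have hcR : Nat.card R₁ = Nat.card A := by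
        obtain ⟨T, hT⟩ := hR₁p.exists_le_sylow
        by_contra hne
        have hAy : A.relIndex (S : Subgroup G) = 2 := by
          rw [relIndex, index_eq_two_iff]
          refine ⟨⟨yr, hyr⟩, fun s => ?_⟩
          rw [mem_subgroupOf, mem_subgroupOf, Subgroup.coe_mul]
          by_cases hs : (s : G) ∈ A
          · refine Or.inr ⟨hs, fun h' => hyra ?_⟩
            exact (mem_abMax.1 ((A.mul_mem_cancel_left hs).1 h')).2
          · refine Or.inl ⟨?_, hs⟩
            have h5 := (K.outside hrS hr0 hyr hyra s.2).resolve_left hs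
            have h1 := (mem_normalizer_iff.1 (K.le_normalizer_abMax hrS hyr) _).1 h5
            rw [mul_inv_cancel_left] at h1
            have h2 : yr * yr ∈ A := mem_abMax.2 ⟨mul_mem hyr hyr, (K.sq yr hyr r hrS).symm⟩
            have h3 := mul_mem h1 h2
            rwa [show (s : G) * yr⁻¹ * (yr * yr) = s * yr by group] at h3
        have hcS : Nat.card (S : Subgroup G) = Nat.card A * 2 := by
          have h1 := relIndex_mul_relIndex ⊥ A (S : Subgroup G) bot_le inf_le_left
          rw [relIndex_bot_left, relIndex_bot_left, hAy] at h1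
          exact h1.symm
        have hRT : R₁ = (T : Subgroup G) := by
          refine eq_of_le_of_card_ge hT ?_
          rw [T.card_eq_multiplicity, ← S.card_eq_multiplicity, hcS]
          obtain ⟨i, hi⟩ := IsPGroup.iff_card.1 hAp
          obtain ⟨j, hj⟩ := IsPGroup.iff_card.1 hR₁p
          rw [hi, hj] at hne ⊢
          have : i ≤ j := by
            have := Nat.le_of_dvd (by positivity) (hi ▸ hj ▸ card_dvd_of_le hAR : 2 ^ i ∣ 2 ^ j)
            exact (Nat.pow_le_pow_iff_right (by norm_num)).1 this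
          rw [← pow_succ]
          exact Nat.pow_le_pow_right (by norm_num)
            (Nat.lt_of_le_of_ne this fun e => hne (by rw [e]))
        obtain ⟨k, hk⟩ := MulAction.exists_smul_eq G S T
        refine not_full b hbA.1 hbA.2 k ?_
        obtain ⟨o, ho⟩ := (IsPGroup.iff_orderOf.1 S.2) ⟨b, (mem_abMax.1 hbA.1).1⟩
        rw [Subgroup.orderOf_mk] at ho
        refine K.mem_center_of_commute (k := o) ?_ fun s hs => ?_
        · have := CfsgLib.Signalizer.orderOf_conj k⁻¹ b
          rw [inv_inv] at this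
          rw [← ho, ← this, pow_orderOf_eq_one]
        · have hm : k * s * k⁻¹ ∈ C := by
            have h1 : k * s * k⁻¹ ∈ R₁ := by
              rw [hRT, ← hk, CfsgLib.Transfer.mem_sylow_smul]
              simpa [mul_assoc] using hs
            exact map_subtype_le _ h1
          have := (show Commute (k * s * k⁻¹) b from mem_centralizer_singleton_iff.1 hm).map
            (MulAut.conj k⁻¹).toMonoidHom
          simpa [mul_assoc] using this
      obtain ⟨R', hR'⟩ := ((hAp.map (MulAut.conj g).toMonoidHom).of_equiv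
        (subgroupOfEquivOfLe hgAC).symm).exists_le_sylow
      obtain ⟨k, hk⟩ := MulAction.exists_smul_eq C R' R
      have hN : (k : G) * g ∈ normalizer (A : Set G) := by
        have hsub : ∀ v ∈ A, (k : G) * g * v * ((k : G) * g)⁻¹ ∈ A := by
          intro v hv
          have h1 : (⟨g * v * g⁻¹, hgAC ⟨v, hv, rfl⟩⟩ : C) ∈ (R' : Subgroup C) :=
            hR' (mem_subgroupOf.2 ⟨v, hv, rfl⟩)
          have h2 : k * ⟨g * v * g⁻¹, hgAC ⟨v, hv, rfl⟩⟩ * k⁻¹ ∈ (R : Subgroup C) := by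
            rw [← hk, CfsgLib.Transfer.mem_sylow_smul]
            simpa [mul_assoc] using h1
          have h3 : (k : G) * (g * v * g⁻¹) * (k : G)⁻¹ ∈ R₁ := ⟨_, h2, rfl⟩
          have hAR' : A = R₁ := eq_of_le_of_card_ge hAR hcR.le
          rw [hAR']
          convert h3 using 1
          group
        rw [← CfsgLib.Transfer.map_conj_eq_self_iff (G := G)]
        refine eq_of_le_of_card_ge ?_ (CfsgLib.Transfer.card_map_conj _ A).ge
        rintro _ ⟨v, hv, rfl⟩
        exact hsub v hv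
      have hkb : (k : G) * b * (k : G)⁻¹ = b :=
        mul_inv_eq_iff_eq_mul.2 (mem_centralizer_singleton_iff.1 k.2)
      have := act₃ _ hN d hd h
      rwa [show (k : G) * g * d * ((k : G) * g)⁻¹ = (k : G) * (g * d * g⁻¹) * (k : G)⁻¹ by group,
        ← hbd, hkb] at this
  refine ⟨D, W, ⟨⟨hDS, hWS, hDW, hinf, hsup⟩, hDcl, hWcl,
    fun a ha b hb => (mem_sylCenter.1 (hWZ hb)).2 a (hWS ha), Or.inr ⟨2, le_rfl, ⟨eD⟩⟩⟩, ?_⟩
  rw [Nat.card_congr eD.toEquiv, DihedralGroup.nat_card]

end NaCtx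

end CfsgLib.TwoGroups.CentreIndexFour
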