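import Cfsg.Agent.Lib.TwoGroups.CentreIndexFour.Abelian
import Cfsg.Agent.Lib.TwoGroups.CentreIndexFour.Product
import Cfsg.Prelude.Def_CaseTheorems

/-!
Owner: helper2.  A quasisimple group whose nonabelian Sylow 2-subgroup has centre of index four has a
Sylow 2-subgroup of order eight, given the general theorem of Bender and that the central 2-elements
lie in the derived Sylow subgroup (for S4594).
-/

set_option autoImplicit false
set_option linter.unusedSectionVars false
set_option linter.style.haveILetI false

namespace CfsgLib.TwoGroups.CentreIndexFour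

open Subgroup Cfsg
open scoped commutatorElement

universe u

theorem center_bot_of_simple {H : Type u} [Group H] [IsSimpleGroup H] {a b : H} (h : ¬ Commute a b) :
    center H = ⊥ :=
  (IsSimpleGroup.eq_bot_or_eq_top_of_normal _ inferInstance).resolve_right fun he =>
    h (mem_center_iff.1 (he ▸ mem_top b) a)

/-- The case of a simple group. -/
theorem nonabelian_card_eight {H : Type u} [Group H] [Finite H] [IsSimpleGroup H]
    (hB : CfsgLib.Bender.BenderGen.{u}) (S : Sylow 2 H) (hna : ¬ IsMulCommutative (S : Subgroup H))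
    (hidx : (Subgroup.center (S : Subgroup H)).index = 4) : Nat.card (S : Subgroup H) = 8 := by
  obtain ⟨c, K⟩ := naCtx_exists S hna hidx
  obtain ⟨a, -, b, -, hab⟩ := K.ex
  have hnc := center_bot_of_simple hab
  have hO : oddCore H = ⊥ := by
    refine (IsSimpleGroup.eq_bot_or_eq_top_of_normal _ inferInstance).resolve_right fun h => ?_
    have h1 := (CfsgLib.ZStar.odd_card_oddCore H).of_dvd_nat
      (orderOf_dvd_natCard (oddCore H) (h ▸ mem_top c : c ∈ oddCore H))
    rw [K.ord] at h1
    exact absurd h1 (by decide)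
  obtain ⟨g, hg, hne⟩ : ∃ g, g * c * g⁻¹ ∈ (S : Subgroup H) ∧ g * c * g⁻¹ ≠ c := by
    by_contra hall
    push Not at hall
    have hc := CfsgLib.TwoFusion.DihedralProduct.central_of_isolated hO S K.ord K.mem hall
    rw [hnc, mem_bot] at hc
    exact K.c_ne_one hc
  obtain ⟨D, W, F, hD⟩ := K.exists_fib (commutator_top_of_simple hnc) hidx hg hne
  have hbot := CfsgLib.TwoFusion.AbelianFactor.factor_eq_bot_of_simple hB hnc F
  have hsup := F.prod.2.2.2.2
  rw [hbot, sup_bot_eq] at hsup
  rw [← hsup, hD]

/-- The Sylow subgroup has order eight. -/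
theorem card_eight {G : Type u} [Group G] [Finite G] (hB : CfsgLib.Bender.BenderGen.{u})
    (hq : IsQuasisimple G) (P : Sylow 2 G) (hna : ¬ IsMulCommutative (P : Subgroup G))
    (hZ : (Subgroup.center (P : Subgroup G)).index = 4)
    (hL : center G ⊓ (P : Subgroup G) ≤ ⁅(P : Subgroup G), (P : Subgroup G)⁆) :
    Nat.card (P : Subgroup G) = 8 := by
  haveI : Fact (Nat.Prime 2) := ⟨Nat.prime_two⟩
  haveI : IsSimpleGroup (G ⧸ center G) := hq.2
  obtain ⟨c, K⟩ := naCtx_exists P hna hZ
  set π := QuotientGroup.mk' (center G) with hπd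
  have hπ : Function.Surjective π := QuotientGroup.mk'_surjective _
  have hker : ∀ x, π x = 1 ↔ x ∈ center G := fun x => QuotientGroup.eq_one_iff x
  set T : Sylow 2 (G ⧸ center G) := P.mapSurjective hπ with hT
  have hmem : ∀ {x}, x ∈ (P : Subgroup G) → π x ∈ (T : Subgroup (G ⧸ center G)) := fun {x} hx => by
    rw [hT, Sylow.coe_mapSurjective]; exact mem_map_of_mem π hx
  have hT' : ∀ v ∈ (T : Subgroup (G ⧸ center G)), ∃ x ∈ (P : Subgroup G), π x = v := fun v hv => by
    rw [hT, Sylow.coe_mapSurjective] at hv; exact hv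
  have hder : ⁅(P : Subgroup G), (P : Subgroup G)⁆ ≤ zpowers c := by
    rw [commutator_le]
    intro a ha b hb
    rw [commutatorElement_def]
    rcases K.comm a ha b hb with h | h <;> rw [h]
    · rw [mul_inv_cancel]; exact one_mem _
    · rw [(K.cen b hb).eq, mul_inv_cancel_right]; exact mem_zpowers c
  have h01 : ∀ x ∈ center G, x ∈ (P : Subgroup G) → x = 1 ∨ x = c := by
    intro x hx hxP
    obtain ⟨n, rfl⟩ := mem_powers_iff_mem_zpowers.2 (hder (hL ⟨hx, hxP⟩))
    show c ^ n = 1 ∨ c ^ n = c
    rw [pow_eq_pow_mod n (show c ^ 2 = 1 by rw [pow_two]; exact K.c_sq)]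
    rcases Nat.mod_two_eq_zero_or_one n with h | h <;> simp [h]
  by_cases hcz : c ∈ center G
  · -- the image is abelian of order four
    have hab : ∀ a ∈ (T : Subgroup (G ⧸ center G)), ∀ b ∈ (T : Subgroup (G ⧸ center G)), Commute a b := by
      intro a ha b hb
      obtain ⟨x, hx, rfl⟩ := hT' a ha
      obtain ⟨y, hy, rfl⟩ := hT' b hb
      rcases K.comm x hx y hy with h | h
      · exact (show Commute x y from mul_inv_eq_iff_eq_mul.1 h).map π
      · have h1 := congrArg π h
        rw [map_mul, map_mul, map_mul, map_inv, (hker c).2 hcz, mul_one] at h1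
        exact mul_inv_eq_iff_eq_mul.1 h1
    have hnc : center (G ⧸ center G) = ⊥ := by
      refine (IsSimpleGroup.eq_bot_or_eq_top_of_normal _ inferInstance).resolve_right fun he => ?_
      -- a perfect group is not abelian modulo its centre
      have hle : commutator G ≤ center G := by
        rw [commutator_def, commutator_le]
        intro x _ y _
        rw [← hker, map_commutatorElement, commutatorElement_eq_one_iff_mul_comm]
        exact mem_center_iff.1 (he ▸ mem_top (π y)) (π x)
      obtain ⟨a, ha⟩ := exists_ne (1 : G ⧸ center G)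
      obtain ⟨x, rfl⟩ := hπ a
      refine ha ((hker x).2 (hle ?_))
      rw [hq.1.commutator_eq_top]; exact mem_top x
    set Z₀ := sylCenter P with hZ₀
    set S₀ := Z₀.map π with hS₀
    have hkP : π.ker ⊓ (P : Subgroup G) ≤ Z₀ := fun x ⟨hx, hxP⟩ => by
      refine mem_sylCenter.2 ⟨hxP, fun s _ => ?_⟩
      exact mem_center_iff.1 ((hker x).1 hx) s
    have h0 : S₀ ≤ (T : Subgroup (G ⧸ center G)) := by
      rw [hT, Sylow.coe_mapSurjective]; exact map_mono inf_le_left
    have hidx : S₀.relIndex (T : Subgroup (G ⧸ center G)) = 4 := by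
      rw [hT, Sylow.coe_mapSurjective, ← relIndex_comap, ← inf_relIndex_right]
      have e : S₀.comap π ⊓ (P : Subgroup G) = Z₀ := by
        refine le_antisymm ?_ (le_inf (fun z hz => ⟨z, hz, rfl⟩) inf_le_left)
        rintro x ⟨⟨z, hz, hzx⟩, hxP⟩
        have h1 : z⁻¹ * x ∈ Z₀ := hkP ⟨by
          show π (z⁻¹ * x) = 1
          rw [map_mul, map_inv, hzx, inv_mul_cancel],
          mul_mem ((P : Subgroup G).inv_mem (mem_sylCenter.1 hz).1) hxP⟩
        simpa using mul_mem hz h1
      rw [e]
      exact K.relIndex_center hZ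
    have hinv : normalizer ((T : Subgroup (G ⧸ center G)) : Set (G ⧸ center G)) ≤
        normalizer (S₀ : Set (G ⧸ center G)) := by
      refine le_normalizer_iff.2 fun h hh v hv => ?_
      obtain ⟨g, rfl⟩ := hπ h
      have hgN : g ∈ normalizer ((P : Subgroup G) : Set G) := by
        set P' := ((P : Subgroup G).map (MulAut.conj g).toMonoidHom)
        have hsub : P' ≤ (P : Subgroup G) ⊔ center G := by
          rintro _ ⟨x, hx, rfl⟩
          show g * x * g⁻¹ ∈ _
          obtain ⟨y, hy, hy'⟩ := hT' _ ((mem_normalizer_iff.1 hh _).1 (hmem hx))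
          have h1 : y⁻¹ * (g * x * g⁻¹) ∈ center G := by
            rw [← hker, map_mul, map_inv, map_mul, map_mul, map_inv, hy', inv_mul_cancel]
          simpa using mul_mem (mem_sup_left hy) (mem_sup_right h1)
        have hn : P' ≤ normalizer ((P : Subgroup G) : Set G) :=
          hsub.trans (sup_le le_normalizer (center_le_normalizer _))
        have h2 : IsPGroup 2 ((P : Subgroup G) ⊔ P' : Subgroup G) :=
          IsPGroup.to_sup_of_normal_left' P.2 (P.2.map _) hn
        rw [← CfsgLib.Transfer.map_conj_eq_self_iff]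
        exact eq_of_le_of_card_ge ((le_sup_right : P' ≤ _).trans (P.is_maximal' h2 le_sup_left).le)
          (CfsgLib.Transfer.card_map_conj g _).ge
      obtain ⟨z, hz, rfl⟩ := hv
      exact ⟨g * z * g⁻¹, K.conj_center hgN hz, by rw [map_mul, map_mul, map_inv]⟩
    have hsq : ∀ s ∈ (T : Subgroup (G ⧸ center G)), s * s ∈ S₀ := by
      intro s hs
      obtain ⟨x, hx, rfl⟩ := hT' s hs
      exact ⟨x * x, mem_sylCenter.2 ⟨mul_mem hx hx, K.sq x hx⟩, map_mul _ _ _⟩
    have h4 := abelian_card_four hB hnc T hab S₀ h0 hinv hidx hsq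
    rw [hT, Sylow.coe_mapSurjective] at h4
    have hk : Nat.card (π.ker ⊓ (P : Subgroup G) : Subgroup G) = 2 := by
      have e : π.ker ⊓ (P : Subgroup G) = zpowers c := by
        refine le_antisymm (fun x ⟨hx, hxP⟩ => ?_) (zpowers_le.2 ⟨(hker c).2 hcz, K.mem⟩)
        rcases h01 x ((hker x).1 hx) hxP with rfl | rfl
        · exact one_mem _
        · exact mem_zpowers _
      rw [e, Nat.card_zpowers, K.ord]
    have h1 := (π.domRestrict (P : Subgroup G)).ker.card_mul_index
    rw [index_ker, MonoidHom.domRestrict_range, h4] at h1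
    have e2 : Nat.card (π.domRestrict (P : Subgroup G)).ker =
        Nat.card (π.ker ⊓ (P : Subgroup G) : Subgroup G) := by
      rw [MonoidHom.ker_domRestrict, ← inf_subgroupOf_right]
      exact Nat.card_congr (subgroupOfEquivOfLe inf_le_right).toEquiv
    rw [e2, hk] at h1
    omega
  · -- the image is isomorphic
    have hinj : Function.Injective (π.domRestrict (P : Subgroup G)) := by
      rw [injective_iff_map_eq_one]
      intro x hx
      have hx' : (x : G) ∈ center G := (hker _).1 hx
      rcases h01 _ hx' x.2 with h | h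
      · exact Subtype.ext h
      · exact absurd (h ▸ hx') hcz
    have hrange : (π.domRestrict (P : Subgroup G)).range = (T : Subgroup (G ⧸ center G)) := by
      rw [hT, Sylow.coe_mapSurjective, MonoidHom.domRestrict_range]
    let e : (P : Subgroup G) ≃* (T : Subgroup (G ⧸ center G)) :=
      (MonoidHom.ofInjective hinj).trans (MulEquiv.subgroupCongr hrange)
    have hna' : ¬ IsMulCommutative (T : Subgroup (G ⧸ center G)) := fun h =>
      hna ⟨⟨fun a b => e.injective (by rw [map_mul, map_mul]; exact h.is_comm.comm _ _)⟩⟩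
    have hZ' : (Subgroup.center (T : Subgroup (G ⧸ center G))).index = 4 := by
      have e' : (Subgroup.center (P : Subgroup G)).map (e : (P : Subgroup G) →* _) =
          Subgroup.center (T : Subgroup (G ⧸ center G)) := by
        ext v
        constructor
        · rintro ⟨x, hx, rfl⟩
          refine mem_center_iff.2 fun w => ?_
          obtain ⟨y, rfl⟩ := e.surjective w
          show e y * e x = e x * e y
          rw [← map_mul, ← map_mul, mem_center_iff.1 hx y]
        · intro hv
          refine ⟨e.symm v, mem_center_iff.2 fun y => ?_, e.apply_symm_apply v⟩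
          apply e.injective
          rw [map_mul, map_mul, e.apply_symm_apply]
          exact mem_center_iff.1 hv (e y)
      rw [← e', index_map_equiv, hZ]
    rw [Nat.card_congr e.toEquiv]
    exact nonabelian_card_eight hB T hna' hZ'

end CfsgLib.TwoGroups.CentreIndexFour
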