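import Cfsg.Agent.Lib.TwoGroups.CentreIndexFour.Setup
import Cfsg.Agent.Lib.PGroups.Transvections
import Cfsg.Agent.Lib.PGroups.CenterIndexSquare

/-!
Owner: helper2.  The abelian maximal subgroups of a Sylow 2-subgroup with centre of index four, and
their automisers (for S4594).
-/

set_option autoImplicit false
set_option linter.unusedSectionVars false
set_option linter.style.haveILetI false

namespace CfsgLib.TwoGroups.CentreIndexFour

open Subgroup
open scoped commutatorElement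

/-- A nonabelian Sylow 2-subgroup with centre of index four; `c` is its commutator. -/
structure NaCtx {G : Type*} [Group G] (S : Sylow 2 G) (c : G) : Prop where
  ord : orderOf c = 2
  mem : c ∈ (S : Subgroup G)
  cen : ∀ s ∈ (S : Subgroup G), Commute s c
  comm : ∀ a ∈ (S : Subgroup G), ∀ b ∈ (S : Subgroup G), a * b * a⁻¹ = b ∨ a * b * a⁻¹ = b * c
  sq : ∀ a ∈ (S : Subgroup G), ∀ s ∈ (S : Subgroup G), Commute s (a * a)
  span : ∀ a ∈ (S : Subgroup G), ∀ b ∈ (S : Subgroup G), ¬ Commute a b → ∀ s ∈ (S : Subgroup G),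
    ∃ z ∈ (S : Subgroup G), (∀ t ∈ (S : Subgroup G), Commute t z) ∧
      (s = z ∨ s = z * a ∨ s = z * b ∨ s = z * a * b)
  ex : ∃ a ∈ (S : Subgroup G), ∃ b ∈ (S : Subgroup G), ¬ Commute a b

theorem naCtx_exists {G : Type*} [Group G] [Finite G] (S : Sylow 2 G)
    (hna : ¬ IsMulCommutative (S : Subgroup G))
    (hidx : (Subgroup.center (S : Subgroup G)).index = 4) : ∃ c, NaCtx S c := by
  haveI : Fact (Nat.Prime 2) := ⟨Nat.prime_two⟩
  obtain ⟨z, hz2, hzc, hcomm, hsq, hspan⟩ :=
    CfsgLib.PGroups.center_square_facts (p := 2) S.2 hna (by rw [hidx]; norm_num)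
  have hcen : ∀ {w : (S : Subgroup G)}, w ∈ center (S : Subgroup G) →
      ∀ t ∈ (S : Subgroup G), Commute t (w : G) := fun {w} hw t ht =>
    congrArg Subtype.val (mem_center_iff.1 hw ⟨t, ht⟩)
  have h01 : ∀ w ∈ zpowers z, w = 1 ∨ w = z := by
    intro w hw
    obtain ⟨n, rfl⟩ := mem_powers_iff_mem_zpowers.2 hw
    show z ^ n = 1 ∨ z ^ n = z
    rw [pow_eq_pow_mod n (hz2 ▸ pow_orderOf_eq_one z)]
    rcases Nat.mod_two_eq_zero_or_one n with h | h <;> simp [h]
  refine ⟨z, ⟨(Subgroup.orderOf_coe z).trans hz2, z.2, hcen hzc, ?_, ?_, ?_, ?_⟩⟩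
  · intro a ha b hb
    rcases h01 _ (hcomm ⟨a, ha⟩ ⟨b, hb⟩) with h | h
    · left
      have h' := congrArg Subtype.val h
      simp only [commutatorElement_def, Subgroup.coe_mul, Subgroup.coe_inv, Subgroup.coe_one] at h'
      exact mul_inv_eq_one.1 h'
    · right
      have h' := congrArg Subtype.val h
      simp only [commutatorElement_def, Subgroup.coe_mul, Subgroup.coe_inv] at h'
      rw [mul_inv_eq_iff_eq_mul] at h'
      rw [h', (hcen hzc b hb).eq]
  · intro a ha s hs
    have h := hcen (hsq ⟨a, ha⟩) s hs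
    simpa [pow_two] using h
  · intro a ha b hb hab s hs
    obtain ⟨w, hw, j, k, he⟩ := hspan ⟨a, ha⟩ ⟨b, hb⟩
      (fun h => hab (congrArg Subtype.val h.eq)) ⟨s, hs⟩
    have key : ∀ (u : (S : Subgroup G)) (n : ℕ), ∃ v ∈ center (S : Subgroup G), u ^ n = v ∨ u ^ n = v * u := by
      intro u n
      refine ⟨(u ^ 2) ^ (n / 2), pow_mem (hsq u) _, ?_⟩
      rcases Nat.mod_two_eq_zero_or_one n with h | h
      · left; rw [← pow_mul]; congr 1; omega
      · right; rw [← pow_mul, ← pow_succ]; congr 1; omega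
    obtain ⟨u, hu, hu'⟩ := key ⟨a, ha⟩ j
    obtain ⟨v, hv, hv'⟩ := key ⟨b, hb⟩ k
    refine ⟨((w * u * v : (S : Subgroup G)) : G), SetLike.coe_mem _, hcen (mul_mem (mul_mem hw hu) hv), ?_⟩
    have hva : (v : G) * a = a * (v : G) := ((hcen hv) a ha).eq.symm
    rcases hu' with e | e <;> rcases hv' with e' | e' <;> rw [e, e'] at he <;>
      have h := congrArg Subtype.val he <;> simp only [Subgroup.coe_mul] at h ⊢
    · exact Or.inl h
    · refine Or.inr (Or.inr (Or.inl ?_))
      rw [h]; group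
    · refine Or.inr (Or.inl ?_)
      rw [h, ← mul_assoc, mul_assoc _ (v : G) a, hva]
      group
    · refine Or.inr (Or.inr (Or.inr ?_))
      rw [h, ← mul_assoc, ← mul_assoc, mul_assoc _ (v : G) a, hva]
      group
  · by_contra h
    push Not at h
    exact hna ⟨⟨fun a b => Subtype.ext (h a a.2 b b.2)⟩⟩

/-- The centre of `S`, inside `G`. -/
def sylCenter {G : Type*} [Group G] (S : Sylow 2 G) : Subgroup G :=
  (S : Subgroup G) ⊓ centralizer ((S : Subgroup G) : Set G)

/-- The maximal abelian subgroup containing `a`. -/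
def abMax {G : Type*} [Group G] (S : Sylow 2 G) (a : G) : Subgroup G :=
  (S : Subgroup G) ⊓ centralizer ({a} : Set G)

theorem mem_sylCenter {G : Type*} [Group G] {S : Sylow 2 G} {v : G} :
    v ∈ sylCenter S ↔ v ∈ (S : Subgroup G) ∧ ∀ s ∈ (S : Subgroup G), Commute s v :=
  and_congr_right' mem_centralizer_iff

theorem mem_abMax {G : Type*} [Group G] {S : Sylow 2 G} {a v : G} :
    v ∈ abMax S a ↔ v ∈ (S : Subgroup G) ∧ Commute v a :=
  and_congr_right' (mem_centralizer_singleton_iff)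

namespace NaCtx

variable {G : Type*} [Group G] {S : Sylow 2 G} {c : G} (K : NaCtx S c)

include K

theorem c_ne_one : c ≠ 1 := fun h => by
  have := K.ord; rw [h, orderOf_one] at this; omega

theorem c_sq : c * c = 1 := by rw [← pow_two, ← K.ord, pow_orderOf_eq_one]

theorem c_mem_center : c ∈ sylCenter S := mem_sylCenter.2 ⟨K.mem, K.cen⟩

omit K in
theorem _root_.CfsgLib.TwoGroups.CentreIndexFour.sylCenter_le_abMax {G : Type*} [Group G]
    {S : Sylow 2 G} {a : G} (ha : a ∈ (S : Subgroup G)) : sylCenter S ≤ abMax S a := fun v hv =>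
  mem_abMax.2 ⟨(mem_sylCenter.1 hv).1, ((mem_sylCenter.1 hv).2 a ha).symm⟩

theorem comm_eq {a b : G} (ha : a ∈ (S : Subgroup G)) (hb : b ∈ (S : Subgroup G)) (h : ¬ Commute a b) :
    a * b * a⁻¹ = b * c :=
  (K.comm a ha b hb).resolve_left fun e => h (mul_inv_eq_iff_eq_mul.1 e)

theorem exists_partner {a : G} (ha : a ∈ (S : Subgroup G)) (ha0 : a ∉ sylCenter S) :
    ∃ y ∈ (S : Subgroup G), ¬ Commute y a := by
  by_contra h
  push Not at h
  exact ha0 (mem_sylCenter.2 ⟨ha, h⟩)

theorem abMax_eq {a v : G} (ha : a ∈ (S : Subgroup G)) (ha0 : a ∉ sylCenter S) (hv : v ∈ abMax S a) :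
    ∃ z ∈ sylCenter S, v = z ∨ v = z * a := by
  obtain ⟨y, hy, hya⟩ := K.exists_partner ha ha0
  obtain ⟨hvS, hva⟩ := mem_abMax.1 hv
  obtain ⟨z, hz, hzc, h⟩ := K.span a ha y hy (fun h => hya h.symm) v hvS
  have hz' : z ∈ sylCenter S := mem_sylCenter.2 ⟨hz, hzc⟩
  refine ⟨z, hz', ?_⟩
  rcases h with h | h | h | h
  · exact Or.inl h
  · exact Or.inr h
  · subst h
    exfalso
    have := ((hzc a ha).symm.inv_left).mul_left hva
    rw [inv_mul_cancel_left] at this
    exact hya this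
  · subst h
    exfalso
    have h1 : Commute (z * a) a := (hzc a ha).symm.mul_left (Commute.refl a)
    have := h1.inv_left.mul_left hva
    rw [inv_mul_cancel_left] at this
    exact hya this

theorem abMax_comm {a : G} (ha : a ∈ (S : Subgroup G)) (ha0 : a ∉ sylCenter S) {v w : G}
    (hv : v ∈ abMax S a) (hw : w ∈ abMax S a) : Commute v w := by
  obtain ⟨z, hz, rfl | rfl⟩ := K.abMax_eq ha ha0 hv
  · exact ((mem_sylCenter.1 hz).2 w (mem_abMax.1 hw).1).symm
  · exact ((mem_sylCenter.1 hz).2 w (mem_abMax.1 hw).1).symm.mul_left (mem_abMax.1 hw).2.symm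

theorem abMax_congr {a b : G} (ha : a ∈ (S : Subgroup G)) (ha0 : a ∉ sylCenter S) (hb : b ∈ abMax S a)
    (hb0 : b ∉ sylCenter S) : abMax S b = abMax S a := by
  have hbS := (mem_abMax.1 hb).1
  refine le_antisymm (fun v hv => ?_) fun v hv => mem_abMax.2 ⟨(mem_abMax.1 hv).1, K.abMax_comm ha ha0 hv hb⟩
  exact mem_abMax.2 ⟨(mem_abMax.1 hv).1, K.abMax_comm hbS hb0 hv (mem_abMax.2 ⟨ha, (mem_abMax.1 hb).2.symm⟩)⟩

theorem le_normalizer_abMax {a : G} (ha : a ∈ (S : Subgroup G)) :
    (S : Subgroup G) ≤ normalizer (abMax S a : Set G) := by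
  refine le_normalizer_iff.2 fun s hs v hv => ?_
  obtain ⟨hvS, hva⟩ := mem_abMax.1 hv
  refine mem_abMax.2 ⟨mul_mem (mul_mem hs hvS) (inv_mem hs), ?_⟩
  rcases K.comm s hs v hvS with h | h <;> rw [h]
  · exact hva
  · exact hva.mul_left (K.cen a ha).symm

/-- Elements outside the abelian subgroup act alike. -/
theorem outside {a y : G} (ha : a ∈ (S : Subgroup G)) (ha0 : a ∉ sylCenter S)
    (hy : y ∈ (S : Subgroup G)) (hya : ¬ Commute y a) {s : G} (hs : s ∈ (S : Subgroup G)) :
    s ∈ abMax S a ∨ y⁻¹ * s ∈ abMax S a := by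
  obtain ⟨z, hz, hzc, h⟩ := K.span a ha y hy (fun h => hya h.symm) s hs
  have hz' : z ∈ abMax S a := mem_abMax.2 ⟨hz, (hzc a ha).symm⟩
  have haA : a ∈ abMax S a := mem_abMax.2 ⟨ha, Commute.refl a⟩
  rcases h with h | h | h | h <;> subst h
  · exact Or.inl hz'
  · exact Or.inl (mul_mem hz' haA)
  · right
    rw [← (hzc y hy).eq, inv_mul_cancel_left]
    exact hz'
  · right
    have := (mem_normalizer_iff.1 (K.le_normalizer_abMax ha (inv_mem hy)) _).1 (mul_mem hz' haA)
    rwa [inv_inv, mul_assoc] at this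

variable [Finite G]

/-- Elements of 2-power order centralising `S` lie in `S`. -/
theorem mem_center_of_commute {v : G} {k : ℕ} (hv : v ^ 2 ^ k = 1)
    (h : ∀ s ∈ (S : Subgroup G), Commute s v) : v ∈ sylCenter S := by
  haveI : Fact (Nat.Prime 2) := ⟨Nat.prime_two⟩
  refine mem_sylCenter.2 ⟨?_, h⟩
  have hp : IsPGroup 2 (zpowers v) := by
    rintro ⟨u, hu⟩
    obtain ⟨n, rfl⟩ := mem_powers_iff_mem_zpowers.2 hu
    refine ⟨k, Subtype.ext ?_⟩
    show (v ^ n) ^ 2 ^ k = 1
    rw [← pow_mul, mul_comm, pow_mul, hv, one_pow]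
  have hn : (zpowers v) ≤ normalizer ((S : Subgroup G) : Set G) :=
    zpowers_le.2 (centralizer_le_normalizer _ (mem_centralizer_iff.2 fun s hs => (h s hs).eq))
  have h2 : IsPGroup 2 ((S : Subgroup G) ⊔ zpowers v : Subgroup G) :=
    IsPGroup.to_sup_of_normal_left' S.2 hp hn
  rw [← S.is_maximal' h2 le_sup_left]
  exact mem_sup_right (mem_zpowers v)

/-- An element conjugate into the centre is conjugate into it by the normaliser of its abelian
subgroup. -/
theorem exists_conj_center {a g : G} (ha : a ∈ (S : Subgroup G)) (ha0 : a ∉ sylCenter S)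
    (hg : g⁻¹ * a * g ∈ sylCenter S) :
    ∃ n ∈ normalizer (abMax S a : Set G), n⁻¹ * a * n ∈ sylCenter S := by
  haveI : Fact (Nat.Prime 2) := ⟨Nat.prime_two⟩
  set A := abMax S a with hA
  set C := centralizer ({a} : Set G) with hC
  have hAC : A ≤ C := inf_le_right
  set S' := ((S : Subgroup G).map (MulAut.conj g).toMonoidHom) with hS'
  have hS'C : S' ≤ C := by
    rintro _ ⟨s, hs, rfl⟩
    rw [hC, mem_centralizer_singleton_iff]
    have h := ((mem_sylCenter.1 hg).2 s hs).map (MulAut.conj g).toMonoidHom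
    simp only [MulEquiv.coe_toMonoidHom, MulAut.conj_apply] at h
    rw [show g * (g⁻¹ * a * g) * g⁻¹ = a by group] at h
    exact h.eq
  have hS'c : Nat.card S' = Nat.card (S : Subgroup G) :=
    (Nat.card_congr ((S : Subgroup G).equivMapOfInjective _ (MulAut.conj g).injective).toEquiv).symm
  obtain ⟨R, hR⟩ := (show IsPGroup 2 (A.subgroupOf C) from
    (S.2.to_le inf_le_left : IsPGroup 2 A).of_equiv (subgroupOfEquivOfLe hAC).symm).exists_le_sylow
  obtain ⟨R', hR'⟩ := (show IsPGroup 2 (S'.subgroupOf C) from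
    (S.2.map _ : IsPGroup 2 S').of_equiv (subgroupOfEquivOfLe hS'C).symm).exists_le_sylow
  obtain ⟨T, hT⟩ := (R.2.map C.subtype).exists_le_sylow
  set R₁ := (R : Subgroup C).map C.subtype with hR₁
  have hRT : R₁ = (T : Subgroup G) := by
    refine eq_of_le_of_card_ge hT ?_
    rw [T.card_eq_multiplicity, ← S.card_eq_multiplicity, ← hS'c, hR₁,
      Nat.card_congr ((R : Subgroup C).equivMapOfInjective _ C.subtype_injective).symm.toEquiv,
      R.card_eq_multiplicity, ← R'.card_eq_multiplicity,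
      ← Nat.card_congr (subgroupOfEquivOfLe hS'C).toEquiv]
    exact Nat.le_of_dvd Nat.card_pos (card_dvd_of_le hR')
  have hAT : A ≤ (T : Subgroup G) := by
    rw [← hRT]
    intro v hv
    exact ⟨⟨v, hAC hv⟩, hR hv, rfl⟩
  have hTC : (T : Subgroup G) ≤ C := by rw [← hRT]; exact map_subtype_le _
  obtain ⟨y, hy, hya⟩ := K.exists_partner ha ha0
  have hidx : A.relIndex (S : Subgroup G) = 2 := by
    rw [relIndex, index_eq_two_iff]
    refine ⟨⟨y, hy⟩, fun s => ?_⟩
    rw [mem_subgroupOf, mem_subgroupOf, Subgroup.coe_mul]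
    by_cases hs : (s : G) ∈ A
    · refine Or.inr ⟨hs, fun h => hya ?_⟩
      exact (mem_abMax.1 ((A.mul_mem_cancel_left hs).1 h)).2
    · refine Or.inl ⟨?_, hs⟩
      have h := (K.outside ha ha0 hy hya s.2).resolve_left hs
      have h1 := (mem_normalizer_iff.1 (K.le_normalizer_abMax ha hy) _).1 h
      rw [mul_inv_cancel_left] at h1
      have h2 : y * y ∈ A := mem_abMax.2 ⟨mul_mem hy hy, (K.sq y hy a ha).symm⟩
      have h3 := mul_mem h1 h2
      rwa [show (s : G) * y⁻¹ * (y * y) = s * y by group] at h3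
  have hidxT : (A.subgroupOf (T : Subgroup G)).index = 2 := by
    have h1 := relIndex_mul_relIndex ⊥ A (S : Subgroup G) bot_le inf_le_left
    have h2 := relIndex_mul_relIndex ⊥ A (T : Subgroup G) bot_le hAT
    rw [relIndex_bot_left, relIndex_bot_left, hidx] at h1
    rw [relIndex_bot_left, relIndex_bot_left, T.card_eq_multiplicity, ← S.card_eq_multiplicity,
      ← h1] at h2
    exact Nat.eq_of_mul_eq_mul_left Nat.card_pos h2
  have hTN : (T : Subgroup G) ≤ normalizer (A : Set G) :=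
    le_normalizer_of_normal_subgroupOf (H := A) (hK := normal_of_index_eq_two hidxT) hAT
  obtain ⟨n, hn⟩ := MulAction.exists_smul_eq (normalizer (A : Set G))
    (S.subtype (K.le_normalizer_abMax ha)) (T.subtype hTN)
  simp_rw [Sylow.smul_subtype, Subgroup.smul_def] at hn
  have hT' := Sylow.subtype_injective hn
  refine ⟨n, n.2, ?_⟩
  have hv : (n : G)⁻¹ * a * n ∈ A := by
    have := (mem_normalizer_iff.1 (inv_mem n.2) a).1 (mem_abMax.2 ⟨ha, Commute.refl a⟩)
    rwa [inv_inv] at this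
  refine mem_sylCenter.2 ⟨(mem_abMax.1 hv).1, fun s hs => ?_⟩
  have hmem : (n : G) * s * (n : G)⁻¹ ∈ (T : Subgroup G) := by
    rw [← hT', CfsgLib.Transfer.mem_sylow_smul]
    simpa [mul_assoc] using hs
  have h := (show Commute ((n : G) * s * (n : G)⁻¹) a from
    mem_centralizer_singleton_iff.1 (hTC hmem)).map (MulAut.conj (n : G)⁻¹).toMonoidHom
  simpa [mul_assoc] using h

end NaCtx

end CfsgLib.TwoGroups.CentreIndexFour
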